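import Groth.Agent.Lib.Smoothing.StandardAt
import Groth.Agent.Lib.Smoothing.Gradient
import Groth.Agent.Lib.LocAcyc.FlatDivide
import Mathlib.RingTheory.Polynomial.Basic
import Mathlib.LinearAlgebra.Multilinear.Basic

set_option autoImplicit false
set_option backward.isDefEq.respectTransparency false

/-! Complete intersections at points of affine space with coordinates in an algebra. -/

open MvPolynomial

namespace Smoothing.Neron

universe u

/-- a divisor of all maximal minors divides the determinant after any column operation -/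
lemma dvd_det_mul {L : Type*} [CommRing L] {a b : Type*} [Fintype a] [DecidableEq a] [Fintype b]
    (J : Matrix a b L) (Q : Matrix b a L) (d : L) (h : ∀ p : a ↪ b, d ∣ (J.submatrix id p).det) :
    d ∣ (J * Q).det := by
  classical
  let D := (Matrix.detRowAlternating (n := a) (R := L)).toMultilinearMap
  have h1 : (J * Q).det = D fun i => ∑ j, Q j i • fun k => J k j := by
    rw [← Matrix.det_transpose]
    refine congrArg D (funext fun i => funext fun k => ?_)
    simp [Matrix.mul_apply, Finset.sum_apply, mul_comm]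
  rw [h1, D.map_sum]
  refine Finset.dvd_sum fun p _ => ?_
  rw [D.map_smul_univ, smul_eq_mul]
  refine Dvd.dvd.mul_left ?_ _
  have h2 : (D fun i k => J k (p i)) = (J.submatrix id p).det :=
    (Matrix.det_transpose (J.submatrix id p))
  rw [h2]
  by_cases hp : Function.Injective p
  · exact h ⟨p, hp⟩
  · obtain ⟨i, j, hij, hne⟩ : ∃ i j, p i = p j ∧ i ≠ j := by
      simpa [Function.Injective] using hp
    rw [Matrix.det_zero_of_column_eq hne fun k => by simp [hij]]
    exact dvd_zero d

/-- local generation passes from the square of an ideal -/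
lemma exists_mul_mem_of_sq {S : Type u} [CommRing S] {m : ℕ} (f : Fin m → S) (J : Ideal S)
    (Q : Ideal S) [Q.IsPrime] (hfQ : ∀ l, f l ∈ Q)
    (h : ∀ l, ∃ t ∉ Q, t * f l ∈ J ⊔ Ideal.span (Set.range f) ^ 2) {x : S}
    (hx : x ∈ Ideal.span (Set.range f)) : ∃ t ∉ Q, t * x ∈ J := by
  let SQ := Localization.AtPrime Q
  let I := Ideal.span (Set.range f)
  have hle : I.map (algebraMap S SQ) ≤ J.map (algebraMap S SQ) := by
    refine Submodule.le_of_le_smul_of_le_jacobson_bot (I := IsLocalRing.maximalIdeal SQ)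
      ((show I.FG from Submodule.fg_span (Set.finite_range f)).map (algebraMap S SQ)) ?_ ?_
    · rw [IsLocalRing.jacobson_eq_maximalIdeal _ bot_ne_top]
    rw [Ideal.map_span, ← Set.range_comp, Ideal.span_le]
    rintro _ ⟨l, rfl⟩
    obtain ⟨t, ht, htl⟩ := h l
    refine (Ideal.unit_mul_mem_iff_mem _ (IsLocalization.map_units SQ (⟨t, ht⟩ : Q.primeCompl))).1 ?_
    have h2 := Ideal.mem_map_of_mem (algebraMap S SQ) htl
    rw [map_mul, Ideal.map_sup, Ideal.map_pow] at h2
    refine SetLike.le_def.1 (sup_le_sup_left ?_ (J.map (algebraMap S SQ))) h2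
    rw [pow_two]
    refine Ideal.mul_mono (R := SQ) ?_ (le_of_eq (by rw [Ideal.map_span, ← Set.range_comp]))
    rw [← Localization.AtPrime.map_eq_maximalIdeal]
    exact Ideal.map_mono (Ideal.span_le.2 (by rintro _ ⟨j, rfl⟩; exact hfQ j))
  obtain ⟨t, ht, h'⟩ := (IsLocalization.algebraMap_mem_map_algebraMap_iff Q.primeCompl SQ J x).1
    (hle (Ideal.mem_map_of_mem _ hx))
  exact ⟨t, ht, h'⟩

/-- over a field, a point in a separable extension is a complete intersection point -/
theorem exists_generic {k L : Type u} [Field k] [Field L] [Algebra k L]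
    [Algebra.IsGeometricallyReduced k L] {n : ℕ} (lam : Fin n → L) :
    ∃ (c : ℕ) (f : Fin c → MvPolynomial (Fin n) k) (cols : Fin c ↪ Fin n),
      (∀ i, aeval lam (f i) = 0) ∧
      Matrix.det (Matrix.of fun i j => grad (aeval lam) (f i) (cols j)) ≠ 0 ∧
      ∀ h, aeval lam h = 0 → ∃ t, aeval lam t ≠ 0 ∧ t * h ∈ Ideal.span (Set.range f) := by
  classical
  let ev : MvPolynomial (Fin n) k →ₐ[k] L := aeval lam
  let A := ev.range
  let φ : MvPolynomial (Fin n) k →ₐ[k] A := ev.rangeRestrict
  have hφ : Function.Surjective φ := ev.rangeRestrict_surjective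
  have hφev : ∀ p, φ p = 0 ↔ ev p = 0 := fun p =>
    ⟨fun h => congrArg Subtype.val h, fun h => Subtype.ext h⟩
  haveI : Algebra.IsGeometricallyReduced k A :=
    Algebra.IsGeometricallyReduced.of_injective A.val Subtype.val_injective
  haveI : Algebra.IsSmoothAt k (⊥ : Ideal A) :=
    GrothLib.LocAcyc.isSmoothAt_of_mem_minimalPrimes ⊥
      ⟨⟨inferInstance, le_rfl⟩, fun P hP _ => bot_le⟩
  obtain ⟨m, g, hg⟩ := Submodule.fg_iff_exists_fin_generating_family.1
    (IsNoetherian.noetherian (RingHom.ker φ.toRingHom))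
  have hker : RingHom.ker φ.toRingHom = Ideal.span (Set.range g) := hg.symm
  obtain ⟨a, ha, c, rows, cols, a', ha', hkill⟩ := exists_standard_element g φ hφ hker (⊥ : Ideal A)
  have hgl : ∀ l, ev (g l) = 0 := fun l => (hφev _).1 (by
    have : g l ∈ RingHom.ker φ.toRingHom := hker ▸ Ideal.subset_span ⟨l, rfl⟩
    exact this)
  refine ⟨c, g ∘ rows, cols, fun i => hgl _, fun hdet => ha ?_, fun h hh => ?_⟩
  · rw [Ideal.mem_bot, ha']
    refine mul_eq_zero_of_right _ ((hφev _).2 ?_)
    rw [show ev (jacobianMinor g rows cols) = ev.toRingHom (jacobianMinor g rows cols) from rfl,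
      jacobianMinor, RingHom.map_det]
    exact hdet
  · obtain ⟨a₁, ha₁⟩ := hφ a
    let Q : Ideal (MvPolynomial (Fin n) k) := RingHom.ker ev.toRingHom
    haveI : Q.IsPrime := RingHom.ker_isPrime _
    have ha₁Q : a₁ ∉ Q := fun h1 => ha (by
      rw [Ideal.mem_bot, ← ha₁]
      exact (hφev _).2 h1)
    obtain ⟨t, ht, hth⟩ := exists_mul_mem_of_sq g (Ideal.span (Set.range (g ∘ rows))) Q hgl
      (fun l => ⟨a₁, ha₁Q, hkill a₁ ha₁ l⟩) (by rw [← hker]; exact (hφev h).2 hh)
    exact ⟨t, ht, hth⟩

end Smoothing.Neron
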