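import Groth.Agent.Lib.Smoothing.Neron.Main
import Groth.Agent.Lib.Smoothing.WeakDelocalize
import Groth.Prelude.Def_BlowUp2
import Mathlib.RingTheory.Flat.Basic

set_option autoImplicit false
set_option backward.isDefEq.respectTransparency false

/-! The Néron blow-up of a smooth point is smooth. -/

open MvPolynomial

namespace Smoothing.Neron

universe u

theorem isSmoothAt_blowup {R Λ A : Type u} [CommRing R] [IsDomain R]
    [IsDiscreteValuationRing R] [CommRing Λ] [IsDomain Λ] [IsDiscreteValuationRing Λ] [Algebra R Λ]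
    [IsLocalHom (algebraMap R Λ)]
    (he : (IsLocalRing.maximalIdeal R).map (algebraMap R Λ) = IsLocalRing.maximalIdeal Λ)
    (hsep : Algebra.IsGeometricallyReduced (IsLocalRing.ResidueField R) (IsLocalRing.ResidueField Λ))
    [CommRing A] [Algebra R A] [Module.Flat R A] [Algebra.FiniteType R A] [Algebra A Λ]
    [IsScalarTower R A Λ] (π : R) (hπ : IsLocalRing.maximalIdeal R = Ideal.span {π})
    (hsm : Algebra.IsSmoothAt R ((IsLocalRing.maximalIdeal Λ).comap (algebraMap A Λ)))
    (φ' : BlowUp.affineAlgebra A ((IsLocalRing.maximalIdeal Λ).comap (algebraMap A Λ)) (algebraMap R A π) →ₐ[A] Λ) :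
    Algebra.IsSmoothAt R ((IsLocalRing.maximalIdeal Λ).comap φ'.toRingHom) := by
  classical
  have hm : IsLocalRing.maximalIdeal Λ = Ideal.span {algebraMap R Λ π} := by
    rw [← he, hπ, Ideal.map_span, Set.image_singleton]
  have hπΛ : algebraMap R Λ π ≠ 0 := fun h0 =>
    IsDiscreteValuationRing.not_a_field Λ (hm.trans (Ideal.span_singleton_eq_bot.2 h0))
  have hπ0 : π ≠ 0 := fun h0 => hπΛ (by rw [h0, map_zero])
  let p : Ideal A := (IsLocalRing.maximalIdeal Λ).comap (algebraMap A Λ)
  let a : A := algebraMap R A π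
  let Aa := Localization.Away a
  have hareg : a ∈ nonZeroDivisors A := by
    refine mem_nonZeroDivisors_iff_right.2 fun x hx => ?_
    have h1 := IsSMulRegular.of_flat (S := A) (x := π)
      (show IsSMulRegular R π from fun u v h => mul_left_cancel₀ hπ0 h)
    refine h1 ?_
    show a • x = a • 0
    rw [smul_zero, smul_eq_mul, mul_comm, hx]
  have hinjA : Function.Injective (algebraMap A Aa) :=
    IsLocalization.injective _ (Submonoid.powers_le.2 hareg)
  have haU : IsUnit (algebraMap A Aa a) := IsLocalization.Away.algebraMap_isUnit a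
  -- a presentation of `A` at the point
  haveI : Algebra.FinitePresentation R A := Algebra.FinitePresentation.of_finiteType.1 ‹_›
  obtain ⟨n, φ, hφ, hfg⟩ := Algebra.FinitePresentation.out (R := R) (A := A)
  obtain ⟨m, g₀, hg₀⟩ := Submodule.fg_iff_exists_fin_generating_family.1 hfg
  have hker : RingHom.ker φ.toRingHom = Ideal.span (Set.range g₀) := hg₀.symm
  haveI : Algebra.IsSmoothAt R p := hsm
  obtain ⟨a₀, ha₀, c, rows, cols₀, a₀', ha₀', hkill⟩ := exists_standard_element g₀ φ hφ hker p
  let lam : Fin n → Λ := fun i => algebraMap A Λ (φ (X i))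
  have hlam : ∀ q, aeval lam q = algebraMap A Λ (φ q) := by
    intro q
    have : aeval lam = (IsScalarTower.toAlgHom R A Λ).comp φ :=
      MvPolynomial.algHom_ext fun i => by simp [lam]
    exact AlgHom.congr_fun this q
  let P : Ideal (MvPolynomial (Fin n) R) := pointPrime lam
  haveI : P.IsPrime := Ideal.IsPrime.comap _
  have hPmem : ∀ q, q ∈ P ↔ φ q ∈ p := fun q => by
    show aeval lam q ∈ IsLocalRing.maximalIdeal Λ ↔ algebraMap A Λ (φ q) ∈ IsLocalRing.maximalIdeal Λ
    rw [hlam]
  have hg₀P : ∀ l, g₀ l ∈ P := fun l => by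
    have h1 : g₀ l ∈ RingHom.ker φ.toRingHom := hker ▸ Ideal.subset_span ⟨l, rfl⟩
    rw [hPmem, show φ (g₀ l) = 0 from h1]
    exact p.zero_mem
  obtain ⟨a₁, ha₁⟩ := hφ a₀
  have ha₁P : a₁ ∉ P := fun h => ha₀ (by rw [← ha₁]; exact (hPmem _).1 h)
  let f : Fin c → MvPolynomial (Fin n) R := g₀ ∘ rows
  have hgen : ∀ q, φ q = 0 → ∃ t, t ∉ P ∧ t * q ∈ Ideal.span (Set.range f) := fun q hq =>
    exists_mul_mem_of_sq g₀ _ P hg₀P (fun l => ⟨a₁, ha₁P, hkill a₁ ha₁ l⟩)
      (by rw [← hker]; exact hq)
  have hf0 : ∀ i, φ (f i) = 0 := fun i => by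
    have h1 : g₀ (rows i) ∈ RingHom.ker φ.toRingHom := hker ▸ Ideal.subset_span ⟨rows i, rfl⟩
    exact h1
  have hΔ : IsUnit ((jac lam f).submatrix id cols₀).det := by
    rw [det_jac_submatrix]
    by_contra h
    refine ha₀ (ha₀' ▸ p.mul_mem_left _ ?_)
    refine (hPmem _).1 ?_
    exact h
  -- the chart
  obtain ⟨D⟩ := exists_centre π hπ hm lam
  have hdiv : ∀ i, ∃ t, t ∉ P ∧ D.unif ∣ D.eta (t * f i) := fun i =>
    D.exists_div_one (hg₀P (rows i))
  choose t ht htdvd using hdiv
  let T := ∏ i, t i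
  have hT : T ∉ P := P.primeCompl.prod_mem fun i _ => ht i
  have hTu : IsUnit (aeval lam T) := by_contra fun h => hT h
  let fh : Fin c → MvPolynomial (Fin n) R := fun i => T * f i
  have hrep : ∀ i, ∃ f', D.eta (fh i) = D.unif ^ 1 * Ideal.Quotient.mk D.G f' := by
    intro i
    obtain ⟨e, he'⟩ : t i ∣ T := Finset.dvd_prod_of_mem t (Finset.mem_univ i)
    obtain ⟨w, hw⟩ := htdvd i
    obtain ⟨w', hw'⟩ := Ideal.Quotient.mk_surjective (D.eta e * w)
    refine ⟨w', ?_⟩
    simp only [fh]
    rw [he', hw', pow_one, show t i * e * f i = e * (t i * f i) by ring, map_mul D.eta e, hw]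
    ring
  choose f' hf' using hrep
  have hJ : ((jac lam fh).submatrix id cols₀).det =
      aeval lam T ^ c * ((jac lam f).submatrix id cols₀).det := by
    have h1 : (jac lam fh).submatrix id cols₀ = aeval lam T • (jac lam f).submatrix id cols₀ := by
      ext i j
      show grad (aeval lam) (fh i) (cols₀ j) = _
      simp only [fh, grad_mul, hlam (f i), hf0, map_zero, zero_smul, add_zero]
      rfl
    rw [h1, Matrix.det_smul, Fintype.card_fin]
  obtain ⟨cols, hcols⟩ := D.exists_minor_chart hm hπΛ (fun _ => 1) f' hf' 0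
    (fun _ => by rw [pow_zero]; exact one_dvd _) cols₀ (fun h => by
      rw [zero_add, pow_one, hJ] at h
      have hu := isUnit_of_dvd_unit h ((hTu.pow c).mul hΔ)
      exact (IsLocalRing.maximalIdeal.isMaximal Λ).ne_top
        (Ideal.eq_top_of_isUnit_mem _ (hm ▸ Ideal.mem_span_singleton_self _) hu))
  simp only [Finset.sum_const, Finset.card_univ, Fintype.card_fin, smul_eq_mul, mul_one] at hcols
  rw [show 0 + c + 1 - c = 1 by omega, pow_one] at hcols
  -- the smooth algebra on the chart
  let f'' := Fin.append f' D.chartRel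
  let J : Ideal (MvPolynomial (Fin (n + D.N)) R) := Ideal.span (Set.range f'')
  have hGJ : D.G ≤ J := Ideal.span_le.2 (by
    rintro _ ⟨j, rfl⟩
    exact Ideal.subset_span ⟨Fin.natAdd c j, Fin.append_right _ _ j⟩)
  let B := MvPolynomial (Fin (n + D.N)) R ⧸ J
  let mk : MvPolynomial (Fin (n + D.N)) R →ₐ[R] B := Ideal.Quotient.mkₐ R J
  have hmkG : ∀ {x y}, Ideal.Quotient.mk D.G x = Ideal.Quotient.mk D.G y → mk x = mk y :=
    fun h => Ideal.Quotient.eq.2 (hGJ (Ideal.Quotient.eq.1 h))
  -- the comparison map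
  let A' := BlowUp.affineAlgebra A p a
  have hgP : ∀ j, φ (D.g j) ∈ p := fun j => by
    refine (hPmem _).1 ?_
    show aeval lam (D.g j) ∈ IsLocalRing.maximalIdeal Λ
    rw [D.val, hm]
    exact Ideal.mul_mem_right _ _ (Ideal.mem_span_singleton_self _)
  let q : Fin D.N → A' := fun j =>
    ⟨IsLocalization.mk' Aa (φ (D.g j)) ⟨a, Submonoid.mem_powers a⟩,
      Algebra.subset_adjoin ⟨φ (D.g j), hgP j, rfl⟩⟩
  let θ₀ : MvPolynomial (Fin (n + D.N)) R →ₐ[R] A' :=
    aeval (Fin.append (fun i => algebraMap A A' (φ (X i))) q)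
  have hθι : ∀ x, θ₀ (rename (Fin.castAdd D.N) x) = algebraMap A A' (φ x) := by
    intro x
    have : θ₀.comp (rename (Fin.castAdd D.N)) = (IsScalarTower.toAlgHom R A A').comp φ :=
      MvPolynomial.algHom_ext fun i => by simp [θ₀]
    exact AlgHom.congr_fun this x
  have hvalinj : ∀ {x y : A'}, algebraMap A Aa a * (x : Aa) = algebraMap A Aa a * (y : Aa) → x = y :=
    fun h => Subtype.ext (haU.mul_left_cancel h)
  have hchart : ∀ j, θ₀ (D.chartRel j) = 0 := by
    intro j
    rw [CentreData.chartRel, map_sub, hθι, map_mul, sub_eq_zero]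
    refine Subtype.ext ?_
    show algebraMap A Aa (φ (D.g j)) = (θ₀ (MvPolynomial.C π) : Aa) * (θ₀ (X (Fin.natAdd n j)) : Aa)
    simp only [θ₀, aeval_X, Fin.append_right, q, aeval_C]
    rw [show ((algebraMap R A' π : A') : Aa) = algebraMap A Aa a from
      IsScalarTower.algebraMap_apply R A Aa π]
    exact (IsLocalization.mk'_spec' Aa (φ (D.g j)) ⟨a, Submonoid.mem_powers a⟩).symm
  have hθG : ∀ x ∈ D.G, θ₀ x = 0 := fun x hx => by
    have hle : D.G ≤ RingHom.ker θ₀.toRingHom :=
      Ideal.span_le.2 (by rintro _ ⟨j, rfl⟩; exact hchart j)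
    exact hle hx
  let θq : MvPolynomial (Fin (n + D.N)) R ⧸ D.G →+* A' := Ideal.Quotient.lift D.G θ₀.toRingHom hθG
  have hθqπ : θq D.unif = algebraMap R A' π := θ₀.commutes π
  have hθqη : ∀ x, θq (D.eta x) = algebraMap A A' (φ x) := hθι
  have hπA' : ((algebraMap R A' π : A') : Aa) = algebraMap A Aa a :=
    IsScalarTower.algebraMap_apply R A Aa π
  have hf'θ : ∀ i, θ₀ (f' i) = 0 := by
    intro i
    have h1 := congrArg θq (hf' i)
    rw [hθqη, map_mul θq, map_pow θq, hθqπ, pow_one] at h1
    refine hvalinj ?_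
    have h2 := congrArg Subtype.val h1
    simp only [fh, map_mul, hf0, mul_zero, map_zero] at h2
    rw [Subalgebra.coe_zero, mul_zero, ← hπA']
    exact h2.symm
  have hJθ : ∀ x ∈ J, θ₀ x = 0 := fun x hx => by
    have hle : J ≤ RingHom.ker θ₀.toRingHom := Ideal.span_le.2 (by
      rintro _ ⟨i, rfl⟩
      refine Fin.addCases (fun i => ?_) (fun j => ?_) i
      · simp only [SetLike.mem_coe, RingHom.mem_ker, f'', Fin.append_left]; exact hf'θ i
      · simp only [SetLike.mem_coe, RingHom.mem_ker, f'', Fin.append_right]; exact hchart j)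
    exact hle hx
  let θ : B →ₐ[R] A' := Ideal.Quotient.liftₐ J θ₀ hJθ
  let ψ : B →ₐ[R] Λ := (φ'.restrictScalars R).comp θ
  let pB : Ideal B := (IsLocalRing.maximalIdeal Λ).comap ψ
  let p' : Ideal A' := (IsLocalRing.maximalIdeal Λ).comap φ'.toRingHom
  haveI : pB.IsPrime := Ideal.IsPrime.comap _
  haveI : p'.IsPrime := Ideal.IsPrime.comap _
  have hψ : ∀ x, ψ (mk x) = aeval D.point x := by
    intro x
    have : ψ.comp mk = aeval D.point := by
      refine MvPolynomial.algHom_ext fun i => ?_
      refine Fin.addCases (fun i => ?_) (fun j => ?_) i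
      · show φ' (θ₀ (X (Fin.castAdd D.N i))) = _
        rw [← rename_X (Fin.castAdd D.N) i, hθι, AlgHom.commutes, D.aeval_point_rename, hlam]
      · show φ' (θ₀ (X (Fin.natAdd n j))) = _
        rw [aeval_X, CentreData.point, Fin.append_right]
        refine mul_left_cancel₀ hπΛ ?_
        have h1 : algebraMap A A' a * θ₀ (X (Fin.natAdd n j)) = algebraMap A A' (φ (D.g j)) := by
          refine Subtype.ext ?_
          show algebraMap A Aa a * (θ₀ (X (Fin.natAdd n j)) : Aa) = algebraMap A Aa (φ (D.g j))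
          simp only [θ₀, aeval_X, Fin.append_right, q]
          exact IsLocalization.mk'_spec' Aa (φ (D.g j)) ⟨a, Submonoid.mem_powers a⟩
        have h2 := congrArg φ' h1
        rw [map_mul, AlgHom.commutes, AlgHom.commutes, ← hlam, D.val] at h2
        rw [← IsScalarTower.algebraMap_apply R A Λ] at h2
        simp only [θ₀, aeval_X, Fin.append_right, CentreData.point] at h2 ⊢
        exact h2
    exact AlgHom.congr_fun this x
  haveI : Algebra.FinitePresentation R B :=
    Algebra.FinitePresentation.quotient ⟨Finset.univ.image f'', by simp [J]⟩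
  haveI hsmB : Algebra.IsSmoothAt R pB := by
    refine isSmoothAt_of_kill (B := B) f'' mk Ideal.Quotient.mk_surjective Ideal.mk_ker pB
      (Function.Embedding.refl _) cols ?_ fun ℓ => ⟨1, ?_, ?_⟩
    · intro hmem
      apply hcols
      rw [det_jac_submatrix, ← Ideal.mem_span_singleton, ← hm, ← hψ]
      exact hmem
    · rw [map_one]; exact Ideal.one_notMem _
    · rw [one_mul]
      exact Ideal.mem_sup_left (Ideal.subset_span ⟨ℓ, rfl⟩)
  obtain ⟨b, hb, hbsm⟩ := Algebra.IsSmoothAt.exists_notMem_smooth R pB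
  haveI := hbsm
  haveI : IsRegularRing (Localization.Away b) :=
    GrothLib.GeomReg.isRegularRing_of_smooth R (Localization.Away b)
  let L := Localization.AtPrime pB
  haveI : IsRegularLocalRing L := GrothLib.J2.isRegularLocalRing_of_away b pB hb
  haveI : IsDomain L := GrothLib.CMFree.isDomain_of_isRegularLocalRing L
  -- the kernel of the comparison map dies at the point
  have hker' : ∀ x : B, θ x = 0 → ∃ s, s ∉ pB ∧ s * x = 0 := by
    intro x hx
    obtain ⟨x, rfl⟩ := Ideal.Quotient.mk_surjective x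
    obtain ⟨k, r, hr⟩ := D.exists_reduce x
    have h1 := congrArg θq hr
    rw [map_mul, map_pow, hθqπ, show θq (Ideal.Quotient.mk D.G x) = 0 from hx, mul_zero, hθqη] at h1
    have hr0 : φ r = 0 := hinjA (by
      rw [map_zero]
      exact (congrArg Subtype.val h1).symm)
    obtain ⟨t₀, ht₀, htr⟩ := hgen r hr0
    have h2 : mk (rename (Fin.castAdd D.N) (T * t₀) * MvPolynomial.C π ^ k * x) = 0 := by
      have h3 : mk (rename (Fin.castAdd D.N) (T * t₀) * MvPolynomial.C π ^ k * x) =
          mk (rename (Fin.castAdd D.N) (T * (t₀ * r))) := by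
        refine hmkG ?_
        rw [map_mul, map_mul, map_pow, mul_assoc]
        refine Eq.trans ?_ (map_mul D.eta (T * t₀) r |>.symm.trans (by rw [mul_assoc]; rfl))
        exact congrArg _ hr
      rw [h3]
      obtain ⟨co, hco⟩ := (Submodule.mem_span_range_iff_exists_fun _).1 htr
      rw [← hco, Finset.mul_sum, map_sum, map_sum]
      refine Finset.sum_eq_zero fun i _ => ?_
      rw [smul_eq_mul, show T * (co i * f i) = co i * fh i by simp only [fh]; ring,
        map_mul (rename (Fin.castAdd D.N)) (co i) (fh i), map_mul mk]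
      have h4 : mk (rename (Fin.castAdd D.N) (fh i)) = mk (MvPolynomial.C π * f' i) := by
        refine hmkG ?_
        show D.eta (fh i) = _
        rw [hf' i, pow_one, map_mul]
        rfl
      rw [h4, map_mul mk (MvPolynomial.C π), show mk (f' i) = 0 from
        Ideal.Quotient.eq_zero_iff_mem.2 (Ideal.subset_span ⟨Fin.castAdd D.N i, Fin.append_left _ _ i⟩),
        mul_zero, mul_zero]
    have h5 := congrArg (algebraMap B L) h2
    rw [map_mul, map_mul, map_mul, map_mul, map_pow, map_pow, map_zero] at h5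
    have hne : algebraMap B L (mk (MvPolynomial.C π)) ≠ 0 := by
      intro h0
      obtain ⟨⟨s, hs⟩, h6⟩ := (IsLocalization.map_eq_zero_iff pB.primeCompl L _).1 h0
      have h7 := congrArg ψ h6
      rw [map_mul, map_zero, hψ, aeval_C] at h7
      refine hs ?_
      show ψ s ∈ IsLocalRing.maximalIdeal Λ
      rw [(mul_eq_zero.1 h7).resolve_right hπΛ]
      exact zero_mem _
    have hneT : algebraMap B L (mk (rename (Fin.castAdd D.N) (T * t₀))) ≠ 0 := by
      refine (IsLocalization.map_units L (⟨_, fun hmem => ?_⟩ : pB.primeCompl)).ne_zero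
      have h8 : aeval lam (T * t₀) ∈ IsLocalRing.maximalIdeal Λ := by
        rw [← D.aeval_point_rename, ← hψ]
        exact hmem
      exact ((inferInstance : P.IsPrime).mem_or_mem (show T * t₀ ∈ P from h8)).elim hT ht₀
    obtain ⟨⟨s, hs⟩, h9⟩ := (IsLocalization.map_eq_zero_iff pB.primeCompl L _).1
      ((mul_eq_zero.1 h5).resolve_left (mul_ne_zero hneT (pow_ne_zero _ hne)))
    exact ⟨s, hs, h9⟩
  -- the comparison map is surjective at the point
  let U : Subalgebra R A' :=
    { carrier := {x | ∃ b' m', m' ∉ pB ∧ x * θ m' = θ b'}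
      mul_mem' := fun {y z} ⟨b₁, m₁, hm₁, hy⟩ ⟨b₂, m₂, hm₂, hz⟩ =>
        ⟨b₁ * b₂, m₁ * m₂, fun h => ((inferInstance : pB.IsPrime).mem_or_mem h).elim hm₁ hm₂, by
          rw [map_mul, map_mul, ← hy, ← hz]; ring⟩
      one_mem' := ⟨1, 1, Ideal.one_notMem _, by simp⟩
      add_mem' := fun {y z} ⟨b₁, m₁, hm₁, hy⟩ ⟨b₂, m₂, hm₂, hz⟩ =>
        ⟨b₁ * m₂ + b₂ * m₁, m₁ * m₂,
          fun h => ((inferInstance : pB.IsPrime).mem_or_mem h).elim hm₁ hm₂, by
          rw [map_add, map_mul, map_mul, map_mul, ← hy, ← hz]; ring⟩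
      zero_mem' := ⟨0, 1, Ideal.one_notMem _, by simp⟩
      algebraMap_mem' := fun r => ⟨algebraMap R B r, 1, Ideal.one_notMem _, by
        rw [map_one, mul_one, θ.commutes]⟩ }
  have hU : ∀ x : A', x ∈ U := by
    rintro ⟨x, hx⟩
    induction hx using Algebra.adjoin_induction with
    | mem y hy =>
      obtain ⟨z, hz, rfl⟩ := hy
      obtain ⟨z, rfl⟩ := hφ z
      obtain ⟨t₀, ht₀, w, hw⟩ := D.exists_div_one ((hPmem z).2 hz)
      obtain ⟨w, rfl⟩ := Ideal.Quotient.mk_surjective w
      refine ⟨mk w, mk (rename (Fin.castAdd D.N) t₀), fun hmem => ht₀ ?_, ?_⟩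
      · show aeval lam t₀ ∈ IsLocalRing.maximalIdeal Λ
        rw [← D.aeval_point_rename, ← hψ]
        exact hmem
      · have h1 := congrArg θq hw
        rw [hθqη, map_mul θq, hθqπ, map_mul φ, map_mul] at h1
        refine hvalinj ?_
        have h2 := congrArg Subtype.val h1
        rw [Subalgebra.coe_mul, Subalgebra.coe_mul, hπA'] at h2
        refine Eq.trans ?_ h2
        show algebraMap A Aa a * (IsLocalization.mk' Aa (φ z) ⟨a, Submonoid.mem_powers a⟩ *
          (θ₀ (rename (Fin.castAdd D.N) t₀) : Aa)) = algebraMap A Aa (φ t₀) * algebraMap A Aa (φ z)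
        have h3 : algebraMap A Aa a * IsLocalization.mk' Aa (φ z) ⟨a, Submonoid.mem_powers a⟩ =
            algebraMap A Aa (φ z) :=
          IsLocalization.mk'_spec' Aa (φ z) ⟨a, Submonoid.mem_powers a⟩
        rw [← mul_assoc, h3, hθι, mul_comm]
        rfl
    | algebraMap r =>
      obtain ⟨r, rfl⟩ := hφ r
      exact ⟨mk (rename (Fin.castAdd D.N) r), 1, Ideal.one_notMem _, by
        rw [map_one, mul_one]
        exact (hθι r).symm⟩
    | add x y hx hy hx' hy' => exact U.add_mem hx' hy'
    | mul x y hx hy hx' hy' => exact U.mul_mem hx' hy'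
  -- the local rings agree
  let L' := Localization.AtPrime p'
  letI : Algebra B L' := ((algebraMap A' L').comp θ.toRingHom).toAlgebra
  haveI : IsScalarTower R B L' := IsScalarTower.of_algebraMap_eq (R := R) (S := B) (A := L') fun r => by
    rw [IsScalarTower.algebraMap_apply R A' L', ← θ.commutes]
    rfl
  haveI : IsLocalization pB.primeCompl L' :=
    { map_units := fun ⟨s, hs⟩ => IsLocalization.map_units L' (⟨θ s, fun h => hs h⟩ : p'.primeCompl)
      surj := fun y => by
        obtain ⟨⟨x, ⟨m', hm'⟩⟩, hy⟩ := IsLocalization.surj p'.primeCompl y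
        obtain ⟨b₁, m₁, hm₁, h1⟩ := hU x
        obtain ⟨b₂, m₂, hm₂, h2⟩ := hU m'
        have hb₂ : b₂ ∉ pB := fun h => by
          have h3 : m' * θ m₂ ∈ p' := by rw [h2]; exact h
          exact ((inferInstance : p'.IsPrime).mem_or_mem h3).elim hm' hm₂
        refine ⟨(b₁ * m₂, ⟨m₁ * b₂, fun h => ((inferInstance : pB.IsPrime).mem_or_mem h).elim hm₁ hb₂⟩), ?_⟩
        show y * algebraMap A' L' (θ (m₁ * b₂)) = algebraMap A' L' (θ (b₁ * m₂))
        rw [map_mul θ, map_mul θ, ← h1, ← h2, map_mul, map_mul, map_mul, map_mul]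
        dsimp only at hy
        rw [← hy]
        ring
      exists_of_eq := fun {x y} hxy => by
        obtain ⟨⟨m', hm'⟩, h⟩ := (IsLocalization.eq_iff_exists p'.primeCompl L').1 hxy
        obtain ⟨b₂, m₂, hm₂, h2⟩ := hU m'
        have hb₂ : b₂ ∉ pB := fun h => by
          have h3 : m' * θ m₂ ∈ p' := by rw [h2]; exact h
          exact ((inferInstance : p'.IsPrime).mem_or_mem h3).elim hm' hm₂
        obtain ⟨s, hs, h4⟩ := hker' (b₂ * (x - y)) (by
          rw [map_mul, map_sub, ← h2]
          change m' * θ x = m' * θ y at h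
          linear_combination (θ m₂) * h)
        exact ⟨⟨s * b₂, fun h' => ((inferInstance : pB.IsPrime).mem_or_mem h').elim hs hb₂⟩, by
          show s * b₂ * x = s * b₂ * y
          linear_combination h4⟩ }
  haveI : Algebra.FormallySmooth R L := hsmB
  have key := (Algebra.FormallySmooth.iff_of_equiv (R := R) (A := L) (B := L')
    ((IsLocalization.algEquiv pB.primeCompl L L').restrictScalars R)).1 inferInstance
  exact key

end Smoothing.Neron
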