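import Groth.Agent.Lib.Smoothing.Neron.Step
import Groth.Agent.Lib.Smoothing.LocalStandard
import Mathlib.RingTheory.LocalRing.ResidueField.Basic

set_option autoImplicit false
set_option backward.isDefEq.respectTransparency false

/-! Iterating the blow-up. -/

open MvPolynomial

namespace Smoothing.Neron

universe u

variable {R Λ : Type u} [CommRing R] [CommRing Λ] [Algebra R Λ]

lemma aeval_map_residue [IsLocalRing R] [IsLocalRing Λ] [IsLocalHom (algebraMap R Λ)] {n : ℕ}
    (lam : Fin n → Λ) (p : MvPolynomial (Fin n) R) :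
    aeval (fun i => IsLocalRing.residue Λ (lam i)) (MvPolynomial.map (IsLocalRing.residue R) p) =
      IsLocalRing.residue Λ (aeval lam p) := by
  induction p using MvPolynomial.induction_on with
  | C r =>
    rw [map_C, aeval_C, aeval_C]
    rfl
  | add p q hp hq => simp only [map_add, hp, hq]
  | mul_X p i hp => simp only [map_mul, hp, map_X, aeval_X]

variable [IsDomain Λ] [IsDiscreteValuationRing Λ]

/-- a centre exists for separable residue extensions -/
lemma exists_centre [IsLocalRing R] [IsLocalHom (algebraMap R Λ)]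
    [Algebra.IsGeometricallyReduced (IsLocalRing.ResidueField R) (IsLocalRing.ResidueField Λ)]
    (π : R) (hmR : IsLocalRing.maximalIdeal R = Ideal.span {π})
    (hm : IsLocalRing.maximalIdeal Λ = Ideal.span {algebraMap R Λ π}) {n : ℕ} (lam : Fin n → Λ) :
    Nonempty (CentreData π lam) := by
  classical
  let res := IsLocalRing.residue Λ
  let lamb : Fin n → IsLocalRing.ResidueField Λ := fun i => res (lam i)
  obtain ⟨N, gb, cols, hg0, hdet, hgen⟩ :=
    exists_generic (k := IsLocalRing.ResidueField R) lamb
  let μ : MvPolynomial (Fin n) R →+* MvPolynomial (Fin n) (IsLocalRing.ResidueField R) :=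
    MvPolynomial.map (IsLocalRing.residue R)
  have hμ : Function.Surjective μ := MvPolynomial.map_surjective _ IsLocalRing.residue_surjective
  choose g hg using fun j => hμ (gb j)
  have hval : ∀ j, ∃ m, aeval lam (g j) = algebraMap R Λ π * m := fun j => by
    have : aeval lam (g j) ∈ IsLocalRing.maximalIdeal Λ := by
      rw [← IsLocalRing.residue_eq_zero_iff, ← aeval_map_residue]
      show aeval lamb (μ (g j)) = 0
      rw [hg, hg0]
    rw [hm, Ideal.mem_span_singleton] at this
    exact this
  choose mu hmu using hval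
  refine ⟨⟨N, g, mu, hmu, fun h hh => ?_, cols, ?_⟩⟩
  · have h0 : aeval lamb (μ h) = 0 := by
      show aeval (fun i => IsLocalRing.residue Λ (lam i)) (MvPolynomial.map (IsLocalRing.residue R) h) = 0
      rw [aeval_map_residue, IsLocalRing.residue_eq_zero_iff]
      exact hh
    obtain ⟨tb, htb, hth⟩ := hgen _ h0
    obtain ⟨t, rfl⟩ := hμ tb
    obtain ⟨co, hco⟩ := (Submodule.mem_span_range_iff_exists_fun _).1 hth
    choose a ha using fun j => hμ (co j)
    refine ⟨t, fun ht => htb ?_, ?_⟩
    · show aeval (fun i => IsLocalRing.residue Λ (lam i)) (MvPolynomial.map (IsLocalRing.residue R) t) = 0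
      rw [aeval_map_residue, IsLocalRing.residue_eq_zero_iff]
      exact ht
    · have hk : t * h - ∑ j, a j * g j ∈ Ideal.span {MvPolynomial.C π} := by
        have hker : t * h - ∑ j, a j * g j ∈ RingHom.ker μ := by
          rw [RingHom.mem_ker, map_sub, map_mul, map_sum]
          simp only [map_mul, ha, hg]
          rw [← hco, sub_eq_zero]
          rfl
        rw [show RingHom.ker μ = RingHom.ker (MvPolynomial.map (σ := Fin n) (IsLocalRing.residue R)) from rfl,
          MvPolynomial.ker_map, IsLocalRing.ker_residue, hmR, Ideal.map_span, Set.image_singleton] at hker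
        exact hker
      rw [show t * h = (t * h - ∑ j, a j * g j) + ∑ j, a j * g j by ring]
      exact Submodule.add_mem_sup hk
        (Submodule.sum_mem _ fun j _ => Ideal.mul_mem_left _ _ (Ideal.subset_span ⟨j, rfl⟩))
  · intro h
    apply hdet
    refine Eq.trans ?_ h
    congr 1
    ext i j
    simp only [Matrix.of_apply, grad_apply, ← hg, μ, pderiv_map, lamb, res, aeval_map_residue]

/-- one blow-up lowers the order of a minimal minor -/
theorem exists_descend (π : R) (hm : IsLocalRing.maximalIdeal Λ = Ideal.span {algebraMap R Λ π})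
    (hπ : algebraMap R Λ π ≠ 0) {n c : ℕ} {lam : Fin n → Λ} (D : CentreData π lam)
    (f : Fin c → MvPolynomial (Fin n) R) (hf : IsCI lam f) (v : ℕ)
    (hdiv : ∀ cols : Fin c → Fin n, algebraMap R Λ π ^ (v + 1) ∣ ((jac lam f).submatrix id cols).det)
    (cols : Fin c → Fin n)
    (hcols : ¬ algebraMap R Λ π ^ (v + 2) ∣ ((jac lam f).submatrix id cols).det) :
    ∃ (n' c' : ℕ) (lam' : Fin n' → Λ) (f' : Fin c' → MvPolynomial (Fin n') R), IsCI lam' f' ∧
      (∀ p : MvPolynomial (Fin n) R, aeval lam p ∈ (aeval lam' : MvPolynomial (Fin n') R →ₐ[R] Λ).range) ∧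
      ∃ cols' : Fin c' → Fin n', ¬ algebraMap R Λ π ^ (v + 1) ∣ ((jac lam' f').submatrix id cols').det := by
  classical
  let ev : MvPolynomial (Fin n) R →ₐ[R] Λ := aeval lam
  let P : Ideal (MvPolynomial (Fin n) R) := pointPrime lam
  haveI : P.IsPrime := Ideal.IsPrime.comap _
  haveI : (pointPrime (R := R) lam).IsPrime := Ideal.IsPrime.comap _
  let ρ : MvPolynomial (Fin n) R →+* P.ResidueField := algebraMap _ _
  have hρ0 : ∀ x, ρ x = 0 ↔ ev x ∈ IsLocalRing.maximalIdeal Λ := fun x =>
    Ideal.algebraMap_residueField_eq_zero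
  -- a relation between the rows
  obtain ⟨c₁, rows, cols₁, hspan, hdet⟩ := exists_minor fun i k => ρ (pderiv k (f i))
  have hl : ∃ l, l ∉ Set.range rows := by
    by_contra! hsurj
    let e : Fin c₁ ≃ Fin c := Equiv.ofBijective rows ⟨rows.injective, hsurj⟩
    apply hdet
    have h1 : ev (jacobianMinor f rows cols₁) ∈ IsLocalRing.maximalIdeal Λ := by
      rw [hm, Ideal.mem_span_singleton]
      refine (dvd_pow_self _ (Nat.succ_ne_zero v)).trans ?_
      have h2 : ev (jacobianMinor f rows cols₁) =
          (((jac lam f).submatrix id (cols₁ ∘ e.symm)).submatrix e e).det := by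
        rw [show ev (jacobianMinor f rows cols₁) = ev.toRingHom (jacobianMinor f rows cols₁) from rfl,
          jacobianMinor, RingHom.map_det]
        congr 1
        ext i j
        simp [jac, ev, e, Equiv.ofBijective_symm_apply_apply]
      rw [h2, Matrix.det_submatrix_equiv_self]
      exact hdiv _
    rw [← hρ0, jacobianMinor, RingHom.map_det] at h1
    exact h1
  obtain ⟨l, hl⟩ := hl
  obtain ⟨ν, hν⟩ := (Submodule.mem_span_range_iff_exists_fun _).1 (hspan l)
  choose num den hden hfrac using fun i : Fin c₁ => exists_fraction_residueField P (ν i)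
  let μ := ∏ i, den i
  have hμ : μ ∉ P := P.primeCompl.prod_mem fun i _ => hden i
  let la : Fin c₁ → MvPolynomial (Fin n) R := fun i => num i * ∏ j ∈ Finset.univ.erase i, den j
  have hla : ∀ i, ρ (la i) = ρ μ * ν i := fun i => by
    show ρ (num i * _) = ρ (∏ j, den j) * ν i
    rw [← Finset.mul_prod_erase _ _ (Finset.mem_univ i), map_mul, map_mul, hfrac i]
    ring
  let co : Fin c → MvPolynomial (Fin n) R :=
    fun j => (if j = l then μ else 0) - ∑ i, if rows i = j then la i else 0
  have hcol : co l = μ := by
    simp only [co, if_true]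
    rw [sub_eq_self]
    exact Finset.sum_eq_zero fun i _ => if_neg fun h => hl ⟨i, h⟩
  have hgrad : ∀ k, ev (∑ j, co j * pderiv k (f j)) ∈ IsLocalRing.maximalIdeal Λ := by
    intro k
    rw [← hρ0, map_sum]
    simp only [co, map_mul, map_sub, map_sum, apply_ite ρ, map_zero, sub_mul, Finset.sum_mul,
      ite_mul, zero_mul, Finset.sum_sub_distrib, Finset.sum_ite_eq', Finset.mem_univ, if_true]
    rw [Finset.sum_comm]
    simp only [Finset.sum_ite_eq, Finset.mem_univ, if_true, hla]
    have h2 := congrFun hν k
    simp only [Finset.sum_apply, Pi.smul_apply, smul_eq_mul] at h2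
    change ρ μ * ρ (pderiv k (f l)) - _ = 0
    rw [← h2, Finset.mul_sum, sub_eq_zero]
    exact Finset.sum_congr rfl fun i _ => by ring
  let ft : Fin c → MvPolynomial (Fin n) R := Function.update f l (∑ j, co j * f j)
  have hft0 : ∀ i, ev (ft i) = 0 := by
    intro i
    by_cases hi : i = l
    · subst hi
      simp only [ft, Function.update_self, map_sum, map_mul, ev, hf.1, mul_zero, Finset.sum_const_zero]
    · simp only [ft, Function.update_of_ne hi]
      exact hf.1 i
  have hgsum : grad ev (∑ j, co j * f j) = ∑ j, ev (co j) • grad ev (f j) := by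
    rw [map_sum]
    refine Finset.sum_congr rfl fun j _ => ?_
    rw [grad_mul, show ev (f j) = 0 from hf.1 j, zero_smul, add_zero]
  let s : Fin c → ℕ := fun i => if i = l then 2 else 1
  have hdiv' : ∀ i, ∃ t, t ∉ P ∧ D.unif ^ s i ∣ D.eta (t * ft i) := by
    intro i
    by_cases hi : i = l
    · subst hi
      simp only [s, if_true]
      refine D.exists_div_two hm hπ (hft0 i) fun k => ?_
      rw [IsLocalRing.residue_eq_zero_iff]
      simp only [ft, Function.update_self]
      rw [show grad (aeval lam) (∑ j, co j * f j) = grad ev (∑ j, co j * f j) from rfl, hgsum]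
      have := hgrad k
      simpa [Finset.sum_apply, map_sum, ev] using this
    · simp only [s, hi, if_false, pow_one]
      refine D.exists_div_one ?_
      show ev (ft i) ∈ IsLocalRing.maximalIdeal Λ
      rw [hft0]
      exact zero_mem _
  choose t ht htdvd using hdiv'
  let T := ∏ i, t i
  have hT : T ∉ P := P.primeCompl.prod_mem fun i _ => ht i
  have hunit : ∀ x, x ∉ P → IsUnit (ev x) := fun x hx => by_contra fun h => hx h
  let fh : Fin c → MvPolynomial (Fin n) R := fun i => T * ft i
  have hfh : IsCI lam fh := by
    refine ⟨fun i => by simp only [fh, map_mul]; rw [show aeval lam (ft i) = 0 from hft0 i, mul_zero],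
      fun h hh => ?_⟩
    obtain ⟨t₀, ht₀, hth⟩ := hf.2 h hh
    refine ⟨μ * T * t₀, ?_, ?_⟩
    · simp only [map_mul]
      exact mul_ne_zero (mul_ne_zero (hunit μ hμ).ne_zero (hunit T hT).ne_zero) ht₀
    · have hle : Ideal.span (Set.range f) ≤
          (Ideal.span (Set.range fh)).colon ({μ * T} : Set _) := by
        rw [Ideal.span_le]
        rintro _ ⟨i, rfl⟩
        rw [SetLike.mem_coe, Submodule.mem_colon_singleton, smul_eq_mul]
        by_cases hi : i = l
        · subst hi
          have h1 : f i * (μ * T) = fh i - ∑ j ∈ Finset.univ.erase i, co j * fh j := by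
            simp only [fh, ft, Function.update_self]
            rw [← Finset.add_sum_erase _ _ (Finset.mem_univ i), hcol, mul_add, Finset.mul_sum]
            have h3 : ∀ j ∈ Finset.univ.erase i, co j * (T * Function.update f i
                (co i * f i + ∑ x ∈ Finset.univ.erase i, co x * f x) j) = T * (co j * f j) :=
              fun j hj => by
                rw [Function.update_of_ne (Finset.ne_of_mem_erase hj)]
                ring
            rw [hcol] at h3
            rw [Finset.sum_congr rfl h3]
            ring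
          rw [h1]
          exact sub_mem (Ideal.subset_span ⟨i, rfl⟩) (Submodule.sum_mem _ fun j _ =>
            Ideal.mul_mem_left _ _ (Ideal.subset_span ⟨j, rfl⟩))
        · have h1 : f i * (μ * T) = μ * fh i := by
            simp only [fh, ft, Function.update_of_ne hi]
            ring
          rw [h1]
          exact Ideal.mul_mem_left _ _ (Ideal.subset_span ⟨i, rfl⟩)
      have h2 := hle hth
      rw [Submodule.mem_colon_singleton, smul_eq_mul] at h2
      rw [show μ * T * t₀ * h = t₀ * h * (μ * T) by ring]
      exact h2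
  have hrep : ∀ i, ∃ f', D.eta (fh i) = D.unif ^ s i * Ideal.Quotient.mk D.G f' := by
    intro i
    obtain ⟨e, he⟩ : t i ∣ T := Finset.dvd_prod_of_mem t (Finset.mem_univ i)
    obtain ⟨w, hw⟩ := htdvd i
    obtain ⟨w', hw'⟩ := Ideal.Quotient.mk_surjective (D.eta e * w)
    refine ⟨w', ?_⟩
    simp only [fh]
    rw [he, hw', show t i * e * ft i = e * (t i * ft i) by ring, map_mul D.eta e, hw]
    ring
  choose f' hf' using hrep
  have hJ : ∀ p : Fin c → Fin n, ((jac lam fh).submatrix id p).det =
      ev T ^ c * (ev μ * ((jac lam f).submatrix id p).det) := by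
    intro p
    have h1 : (jac lam fh).submatrix id p = ev T • (((jac lam f).submatrix id p).updateRow l
        (∑ j, ev (co j) • ((jac lam f).submatrix id p) j)) := by
      ext i j
      have hg : grad ev (fh i) = ev T • grad ev (ft i) := by
        simp only [fh, grad_mul, hft0, zero_smul, add_zero]
      show grad ev (fh i) (p j) = _
      rw [hg]
      by_cases hi : i = l
      · subst hi
        simp only [ft, Function.update_self, hgsum, Matrix.smul_apply, Matrix.updateRow_self,
          Pi.smul_apply, Finset.sum_apply]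
        rfl
      · simp only [ft, Function.update_of_ne hi, Matrix.smul_apply, Matrix.updateRow_ne hi,
          Pi.smul_apply]
        rfl
    rw [h1, Matrix.det_smul, Fintype.card_fin, Matrix.det_updateRow_sum, hcol, smul_eq_mul]
  have hu : IsUnit (ev T ^ c * ev μ) := ((hunit T hT).pow c).mul (hunit μ hμ)
  obtain ⟨cols', hcols'⟩ := D.exists_minor_chart hm hπ s f' hf' (v + 1)
    (fun p => by rw [hJ]; exact ((hdiv p).mul_left _).mul_left _) cols (fun h => hcols (by
      rw [hJ, ← mul_assoc] at h
      exact (hu.dvd_mul_left).1 h))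
  · refine ⟨n + D.N, c + D.N, D.point, Fin.append f' D.chartRel, D.isCI_chart hπ hfh s f' hf',
      fun p => ⟨rename (Fin.castAdd D.N) p, D.aeval_point_rename p⟩, cols', ?_⟩
    have hsum : ∑ i, s i = c + 1 := by
      have : ∀ i, s i = (if i = l then 1 else 0) + 1 := fun i => by simp only [s]; split <;> rfl
      simp only [this, Finset.sum_add_distrib, Finset.sum_ite_eq', Finset.mem_univ, if_true]
      simp [add_comm]
    rw [hsum, show v + 1 + c + 1 - (c + 1) = v + 1 by omega] at hcols'
    exact hcols'

/-- iteration down to an invertible minor -/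
theorem exists_unit_minor [IsLocalRing R] [IsLocalHom (algebraMap R Λ)]
    [Algebra.IsGeometricallyReduced (IsLocalRing.ResidueField R) (IsLocalRing.ResidueField Λ)]
    (π : R) (hmR : IsLocalRing.maximalIdeal R = Ideal.span {π})
    (hm : IsLocalRing.maximalIdeal Λ = Ideal.span {algebraMap R Λ π}) (hπ : algebraMap R Λ π ≠ 0) :
    ∀ (v n c : ℕ) (lam : Fin n → Λ) (f : Fin c → MvPolynomial (Fin n) R), IsCI lam f →
      (∃ cols : Fin c → Fin n, ¬ algebraMap R Λ π ^ v ∣ ((jac lam f).submatrix id cols).det) →
      ∃ (n' c' : ℕ) (lam' : Fin n' → Λ) (f' : Fin c' → MvPolynomial (Fin n') R), IsCI lam' f' ∧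
        (∀ p : MvPolynomial (Fin n) R, aeval lam p ∈ (aeval lam' : MvPolynomial (Fin n') R →ₐ[R] Λ).range) ∧
        ∃ cols' : Fin c' → Fin n', IsUnit ((jac lam' f').submatrix id cols').det := by
  intro v
  induction v with
  | zero => intro n c lam f _ ⟨cols, h⟩; exact absurd (by rw [pow_zero]; exact one_dvd _) h
  | succ v ih =>
    intro n c lam f hf ⟨cols, hcols⟩
    by_cases hex : ∃ p : Fin c → Fin n, ¬ algebraMap R Λ π ^ v ∣ ((jac lam f).submatrix id p).det
    · exact ih n c lam f hf hex
    push Not at hex
    rcases v with _ | v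
    · refine ⟨n, c, lam, f, hf, fun p => ⟨p, rfl⟩, cols, by_contra fun h => hcols ?_⟩
      rw [zero_add, pow_one, ← Ideal.mem_span_singleton, ← hm]
      exact h
    · obtain ⟨D⟩ := exists_centre π hmR hm lam
      obtain ⟨n', c', lam', f', hf', hr, hc'⟩ := exists_descend π hm hπ D f hf v hex cols hcols
      obtain ⟨n'', c'', lam'', f'', hf'', hr', hc''⟩ := ih n' c' lam' f' hf' hc'
      refine ⟨n'', c'', lam'', f'', hf'', fun p => ?_, hc''⟩
      obtain ⟨q, hq⟩ := hr p
      exact hq ▸ hr' q

end Smoothing.Neron
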