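import Groth.Agent.Lib.Smoothing.Neron.Descend
import Groth.Agent.Lib.GeomReg.Basic
import Groth.Agent.Lib.J2.Criterion
import Groth.Agent.Lib.CMFree.Regular
import Groth.Agent.Lib.Smoothing.Delocalize
import Mathlib.RingTheory.DedekindDomain.Basic

set_option autoImplicit false
set_option backward.isDefEq.respectTransparency false

/-! Néron desingularization of discrete valuation rings. -/

open MvPolynomial

namespace Smoothing.Neron

universe u

variable {R Λ : Type u} [CommRing R] [CommRing Λ] [Algebra R Λ]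

/-- clearing denominators of a generic complete intersection -/
lemma exists_start [IsDomain R] [IsDomain Λ] (K L : Type u) [Field K] [Algebra R K]
    [IsFractionRing R K] [Field L] [Algebra Λ L] [IsFractionRing Λ L] [Algebra K L] [Algebra R L]
    [IsScalarTower R K L] [IsScalarTower R Λ L] [Algebra.IsGeometricallyReduced K L] {n : ℕ}
    (lam : Fin n → Λ) :
    ∃ (c : ℕ) (f : Fin c → MvPolynomial (Fin n) R), IsCI lam f ∧
      ∃ cols : Fin c → Fin n, ((jac lam f).submatrix id cols).det ≠ 0 := by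
  classical
  let lamL : Fin n → L := fun i => algebraMap Λ L (lam i)
  obtain ⟨c, fK, cols, hf0, hdet, hgen⟩ := exists_generic (k := K) lamL
  obtain ⟨s, hs, hq⟩ := exists_integer_poly (nonZeroDivisors R) fK
  choose q hq using hq
  have hs0 : algebraMap R K s ≠ 0 := IsFractionRing.to_map_ne_zero_of_mem_nonZeroDivisors hs
  have hev : ∀ p : MvPolynomial (Fin n) R,
      aeval lamL (MvPolynomial.map (algebraMap R K) p) = algebraMap Λ L (aeval lam p) := by
    intro p
    rw [aeval_map_algebraMap]
    exact MvPolynomial.aeval_algebraMap_apply (B := L) lam p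
  have hinj : Function.Injective (algebraMap Λ L) := IsFractionRing.injective Λ L
  have hmapinj : Function.Injective (MvPolynomial.map (σ := Fin n) (algebraMap R K)) :=
    MvPolynomial.map_injective _ (IsFractionRing.injective R K)
  have hfq : ∀ i, fK i = MvPolynomial.C (algebraMap R K s)⁻¹ * MvPolynomial.map (algebraMap R K) (q i) := by
    intro i
    rw [hq i, ← mul_assoc, ← map_mul, inv_mul_cancel₀ hs0, map_one, one_mul]
  refine ⟨c, q, ⟨fun i => hinj ?_, fun h hh => ?_⟩, cols, fun h0 => hdet ?_⟩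
  · rw [map_zero, ← hev, hq, map_mul, hf0, mul_zero]
  · obtain ⟨tK, htK, hth⟩ := hgen (MvPolynomial.map (algebraMap R K) h) (by rw [hev, hh, map_zero])
    obtain ⟨co, hco⟩ := (Submodule.mem_span_range_iff_exists_fun _).1 hth
    obtain ⟨d, hd, hint⟩ := exists_integer_poly (nonZeroDivisors R)
      (Sum.elim (fun _ : Unit => tK) fun i => co i * MvPolynomial.C (algebraMap R K s)⁻¹)
    choose w hw using hint
    have hd0 : algebraMap R K d ≠ 0 := IsFractionRing.to_map_ne_zero_of_mem_nonZeroDivisors hd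
    refine ⟨w (Sum.inl ()), fun ht => htK ?_, ?_⟩
    · have h1 := hev (w (Sum.inl ()))
      rw [hw (Sum.inl ()), ht, map_zero, Sum.elim_inl, map_mul, aeval_C] at h1
      exact (mul_eq_zero.1 h1).resolve_left fun h2 =>
        hd0 ((algebraMap K L).injective (h2.trans (map_zero _).symm))
    · refine (Submodule.mem_span_range_iff_exists_fun _).2 ⟨fun i => w (Sum.inr i), hmapinj ?_⟩
      rw [map_mul, hw (Sum.inl ()), Sum.elim_inl, map_sum, mul_assoc, ← hco, Finset.mul_sum]
      refine Finset.sum_congr rfl fun i _ => ?_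
      rw [smul_eq_mul, map_mul, hw (Sum.inr i), Sum.elim_inr, smul_eq_mul, hfq i]
      ring
  · have hg : ∀ i k, grad (aeval lamL) (fK i) k =
        algebraMap K L (algebraMap R K s)⁻¹ * algebraMap Λ L (grad (aeval lam) (q i) k) := by
      intro i k
      rw [grad_apply, grad_apply, hfq i, pderiv_mul, pderiv_C, zero_mul, zero_add, pderiv_map, map_mul,
        aeval_C, hev]
    have : (Matrix.of fun i j => grad (aeval lamL) (fK i) (cols j)) =
        algebraMap K L (algebraMap R K s)⁻¹ • ((jac lam q).submatrix id cols).map (algebraMap Λ L) := by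
      ext i j
      simp only [Matrix.of_apply, hg, Matrix.smul_apply, Matrix.map_apply, Matrix.submatrix_apply,
        jac, id_eq, smul_eq_mul]
    rw [this, Matrix.det_smul, ← RingHom.mapMatrix_apply, ← RingHom.map_det, h0, map_zero, mul_zero]

variable [IsDomain Λ] [IsDiscreteValuationRing Λ]

/-- a smooth model from an invertible minor -/
lemma exists_smooth_model [IsRegularRing R] [IsNoetherianRing R] {n c : ℕ} (lam : Fin n → Λ)
    (f : Fin c → MvPolynomial (Fin n) R) (hf : IsCI lam f) (cols : Fin c → Fin n)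
    (hcols : IsUnit ((jac lam f).submatrix id cols).det) {k : ℕ}
    (q : Fin k → MvPolynomial (Fin n) R) (hq : ∀ l, aeval lam (q l) = 0) :
    ∃ (B : Type u) (_ : CommRing B) (_ : Algebra R B), Algebra.Smooth R B ∧
      ∃ (mk : MvPolynomial (Fin n) R →ₐ[R] B) (δ : B →ₐ[R] Λ),
        δ.comp mk = aeval lam ∧ ∀ l, mk (q l) = 0 := by
  classical
  have hinj : Function.Injective cols := fun i j hij => by
    by_contra hne
    refine hcols.ne_zero (Matrix.det_zero_of_column_eq hne fun r => ?_)
    simp [hij]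
  let J : Ideal (MvPolynomial (Fin n) R) := Ideal.span (Set.range f)
  let B₀ := MvPolynomial (Fin n) R ⧸ J
  let mk₀ : MvPolynomial (Fin n) R →ₐ[R] B₀ := Ideal.Quotient.mkₐ R J
  have hJ0 : ∀ x ∈ J, aeval lam x = 0 := fun x hx => by
    have hle : J ≤ RingHom.ker (aeval lam : MvPolynomial (Fin n) R →ₐ[R] Λ).toRingHom :=
      Ideal.span_le.2 (by rintro _ ⟨i, rfl⟩; exact hf.1 i)
    exact hle hx
  let δ₀ : B₀ →ₐ[R] Λ := Ideal.Quotient.liftₐ J (aeval lam) hJ0
  let pB : Ideal B₀ := (IsLocalRing.maximalIdeal Λ).comap δ₀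
  haveI : pB.IsPrime := Ideal.IsPrime.comap _
  haveI : Algebra.FinitePresentation R B₀ :=
    Algebra.FinitePresentation.quotient ⟨Finset.univ.image f, by simp [J]⟩
  haveI hsm : Algebra.IsSmoothAt R pB := by
    refine isSmoothAt_of_kill (B := B₀) f mk₀ Ideal.Quotient.mk_surjective Ideal.mk_ker pB
      (Function.Embedding.refl _) ⟨cols, hinj⟩ ?_ fun ℓ => ⟨1, ?_, ?_⟩
    · intro hmem
      have h1 : aeval lam (jacobianMinor f id cols) ∈ IsLocalRing.maximalIdeal Λ := hmem
      rw [← det_jac_submatrix] at h1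
      exact h1 hcols
    · rw [map_one]; exact Ideal.one_notMem _
    · rw [one_mul]
      exact Ideal.mem_sup_left (Ideal.subset_span ⟨ℓ, rfl⟩)
  obtain ⟨b, hb, hbsm⟩ := Algebra.IsSmoothAt.exists_notMem_smooth R pB
  haveI := hbsm
  haveI : IsRegularRing (Localization.Away b) :=
    GrothLib.GeomReg.isRegularRing_of_smooth R (Localization.Away b)
  haveI : IsRegularLocalRing (Localization.AtPrime pB) := GrothLib.J2.isRegularLocalRing_of_away b pB hb
  haveI : IsDomain (Localization.AtPrime pB) :=
    GrothLib.CMFree.isDomain_of_isRegularLocalRing (Localization.AtPrime pB)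
  have hkill : ∀ l, ∃ u, u ∉ pB ∧ u * mk₀ (q l) = 0 := by
    intro l
    obtain ⟨t, ht, htq⟩ := hf.2 _ (hq l)
    have h1 : algebraMap B₀ (Localization.AtPrime pB) (mk₀ t) *
        algebraMap B₀ (Localization.AtPrime pB) (mk₀ (q l)) = 0 := by
      rw [← map_mul, ← map_mul, show mk₀ (t * q l) = 0 from Ideal.Quotient.eq_zero_iff_mem.2 htq,
        map_zero]
    rcases mul_eq_zero.1 h1 with h2 | h2
    · obtain ⟨⟨s, hs⟩, h3⟩ := (IsLocalization.map_eq_zero_iff pB.primeCompl _ _).1 h2
      have h4 := congrArg δ₀ h3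
      rw [map_mul, map_zero, show δ₀ (mk₀ t) = aeval lam t from rfl] at h4
      exact absurd (show s ∈ pB by
        show δ₀ s ∈ IsLocalRing.maximalIdeal Λ
        rw [(mul_eq_zero.1 h4).resolve_right ht]
        exact zero_mem _) hs
    · obtain ⟨⟨s, hs⟩, h3⟩ := (IsLocalization.map_eq_zero_iff pB.primeCompl _ _).1 h2
      exact ⟨s, hs, h3⟩
  choose u hu hu0 using hkill
  let w := b * ∏ l, u l
  have hw : w ∉ pB := fun h => ((inferInstance : pB.IsPrime).mem_or_mem h).elim hb
    (pB.primeCompl.prod_mem fun l _ => hu l)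
  have hwu : IsUnit (δ₀ w) := by_contra fun h => hw h
  let B := Localization.Away w
  haveI : Algebra.Smooth R B := by
    refine Algebra.basicOpen_subset_smoothLocus_iff_smooth.1 fun p hp => ?_
    exact (Algebra.basicOpen_subset_smoothLocus_iff_smooth.2 hbsm)
      (show b ∉ p.asIdeal from fun h => hp (p.asIdeal.mul_mem_right _ h))
  let δ : B →ₐ[R] Λ := AlgHom.mk (IsLocalization.Away.lift w hwu) fun r => by
    show IsLocalization.Away.lift w hwu (algebraMap R B r) = _
    rw [IsScalarTower.algebraMap_apply R B₀ B, IsLocalization.Away.lift_eq]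
    exact δ₀.commutes r
  refine ⟨B, inferInstance, inferInstance, inferInstance, (IsScalarTower.toAlgHom R B₀ B).comp mk₀, δ,
    AlgHom.ext fun p => ?_, fun l => ?_⟩
  · show IsLocalization.Away.lift w hwu (algebraMap B₀ B (mk₀ p)) = _
    rw [IsLocalization.Away.lift_eq]
    rfl
  · show algebraMap B₀ B (mk₀ (q l)) = 0
    have h1 : w * mk₀ (q l) = 0 := by
      obtain ⟨e, he⟩ : u l ∣ ∏ l, u l := Finset.dvd_prod_of_mem u (Finset.mem_univ l)
      simp only [w]
      rw [he, show b * (u l * e) * mk₀ (q l) = b * e * (u l * mk₀ (q l)) by ring, hu0, mul_zero]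
    refine (IsLocalization.Away.algebraMap_isUnit (S := B) w).mul_left_cancel ?_
    rw [← map_mul, h1, map_zero, mul_zero]

theorem indSmooth_of_dvr {K L : Type u} [IsDomain R] [IsDiscreteValuationRing R]
    [NoZeroSMulDivisors R Λ] [IsLocalHom (algebraMap R Λ)]
    (he : (IsLocalRing.maximalIdeal R).map (algebraMap R Λ) = IsLocalRing.maximalIdeal Λ)
    [Algebra.IsGeometricallyReduced (IsLocalRing.ResidueField R) (IsLocalRing.ResidueField Λ)]
    [Field K] [Algebra R K] [IsFractionRing R K] [Field L] [Algebra Λ L] [IsFractionRing Λ L]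
    [Algebra K L] [Algebra R L] [IsScalarTower R K L] [IsScalarTower R Λ L]
    [Algebra.IsGeometricallyReduced K L] : IndSmooth R Λ := by
  classical
  obtain ⟨π, hπi⟩ := IsDiscreteValuationRing.exists_irreducible R
  have hmR : IsLocalRing.maximalIdeal R = Ideal.span {π} := hπi.maximalIdeal_eq
  have hm : IsLocalRing.maximalIdeal Λ = Ideal.span {algebraMap R Λ π} := by
    rw [← he, hmR, Ideal.map_span, Set.image_singleton]
  have hπ : algebraMap R Λ π ≠ 0 := fun h0 =>
    IsDiscreteValuationRing.not_a_field Λ (hm.trans (Ideal.span_singleton_eq_bot.2 h0))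
  intro A _ _ hA φ
  haveI := hA
  obtain ⟨n₀, θ, hθ, ⟨sq, hsq⟩⟩ := Algebra.FinitePresentation.out (R := R) (A := A)
  let lam₀ : Fin n₀ → Λ := fun i => φ (θ (X i))
  obtain ⟨c₀, f₀, hf₀, cols₀, hcols₀⟩ := exists_start (R := R) K L lam₀
  obtain ⟨v, u, huv⟩ := IsDiscreteValuationRing.eq_unit_mul_pow_irreducible hcols₀
    ((IsDiscreteValuationRing.irreducible_iff_uniformizer (algebraMap R Λ π)).2 hm)
  obtain ⟨n, c, lam, f, hf, hr, cols, hcols⟩ :=
    exists_unit_minor π hmR hm hπ (v + 1) n₀ c₀ lam₀ f₀ hf₀ ⟨cols₀, fun h => by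
      rw [huv, mul_comm, pow_succ, mul_dvd_mul_iff_left (pow_ne_zero _ hπ)] at h
      exact ((IsDiscreteValuationRing.irreducible_iff_uniformizer (algebraMap R Λ π)).2 hm).not_isUnit
        (isUnit_of_dvd_unit h u.isUnit)⟩
  choose p hp using fun i => hr (X i)
  have hθp : ∀ x : MvPolynomial (Fin n₀) R, aeval lam (aeval p x) = φ (θ x) := by
    intro x
    have : (aeval lam).comp (aeval p) = φ.comp θ := by
      refine MvPolynomial.algHom_ext fun i => ?_
      show aeval lam (aeval p (X i)) = _
      rw [aeval_X]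
      exact (hp i).trans (aeval_X _ _)
    exact AlgHom.congr_fun this x
  let ql : Fin sq.card → MvPolynomial (Fin n) R := fun l => aeval p (sq.equivFin.symm l : MvPolynomial (Fin n₀) R)
  obtain ⟨B, _, _, hB, mk, δ, hδ, hq0⟩ := exists_smooth_model lam f hf cols hcols ql fun l => by
    rw [hθp]
    have : ((sq.equivFin.symm l : MvPolynomial (Fin n₀) R)) ∈ RingHom.ker θ.toRingHom :=
      hsq ▸ Ideal.subset_span (sq.equivFin.symm l).2
    rw [show θ _ = 0 from this, map_zero]
  have hker : RingHom.ker θ.toRingHom ≤ RingHom.ker (mk.comp (aeval p)).toRingHom := by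
    rw [← hsq, Ideal.span_le]
    intro x hx
    have h1 := hq0 (sq.equivFin ⟨x, hx⟩)
    simp only [ql, Equiv.symm_apply_apply] at h1
    exact h1
  refine ⟨B, inferInstance, inferInstance, hB,
    AlgHom.liftOfSurjective θ hθ (mk.comp (aeval p)) hker, δ, AlgHom.ext fun a => ?_⟩
  obtain ⟨x, rfl⟩ := hθ a
  rw [AlgHom.comp_apply, AlgHom.liftOfSurjective_apply, AlgHom.comp_apply, ← AlgHom.comp_apply δ mk,
    hδ, hθp]

end Smoothing.Neron
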