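import Groth.Agent.Lib.Smoothing.Neron.Basic
import Groth.Agent.Lib.Smoothing.Lifting
import Mathlib.RingTheory.DiscreteValuationRing.Basic
import Mathlib.LinearAlgebra.Matrix.SchurComplement
import Mathlib.Algebra.MvPolynomial.Rename

set_option autoImplicit false
set_option backward.isDefEq.respectTransparency false

/-! One Néron blow-up. -/

open MvPolynomial

namespace Smoothing.Neron

universe u

variable {R Λ : Type u} [CommRing R] [CommRing Λ] [Algebra R Λ]

/-- the point satisfies the relations and they generate its ideal generically -/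
def IsCI {n c : ℕ} (lam : Fin n → Λ) (f : Fin c → MvPolynomial (Fin n) R) : Prop :=
  (∀ i, aeval lam (f i) = 0) ∧
    ∀ h, aeval lam h = 0 → ∃ t, aeval lam t ≠ 0 ∧ t * h ∈ Ideal.span (Set.range f)

/-- the Jacobian matrix at the point -/
noncomputable def jac {n c : ℕ} (lam : Fin n → Λ) (f : Fin c → MvPolynomial (Fin n) R) :
    Matrix (Fin c) (Fin n) Λ :=
  Matrix.of fun i => grad (aeval lam) (f i)

lemma det_jac_submatrix {n c : ℕ} (lam : Fin n → Λ) (f : Fin c → MvPolynomial (Fin n) R)
    (cols : Fin c → Fin n) :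
    ((jac lam f).submatrix id cols).det = aeval lam (jacobianMinor f id cols) := by
  rw [show aeval lam (jacobianMinor f id cols) = (aeval lam).toRingHom (jacobianMinor f id cols) from rfl,
    jacobianMinor, RingHom.map_det]
  rfl

variable [IsDomain Λ] [IsDiscreteValuationRing Λ]

/-- the prime under the closed point -/
noncomputable abbrev pointPrime {n : ℕ} (lam : Fin n → Λ) : Ideal (MvPolynomial (Fin n) R) :=
  (IsLocalRing.maximalIdeal Λ).comap (aeval lam).toRingHom

/-- data for blowing up the closed point -/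
structure CentreData (π : R) {n : ℕ} (lam : Fin n → Λ) where
  N : ℕ
  g : Fin N → MvPolynomial (Fin n) R
  mu : Fin N → Λ
  val : ∀ j, aeval lam (g j) = algebraMap R Λ π * mu j
  gen : ∀ h, h ∈ pointPrime lam → ∃ t, t ∉ pointPrime lam ∧
    t * h ∈ Ideal.span {MvPolynomial.C π} ⊔ Ideal.span (Set.range g)
  cols : Fin N → Fin n
  indep : Matrix.det (Matrix.of fun i j =>
    IsLocalRing.residue Λ (grad (aeval lam) (g i) (cols j))) ≠ 0

variable {π : R} {n : ℕ} {lam : Fin n → Λ} (D : CentreData π lam)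

namespace CentreData

/-- the ideal of the blow-up chart -/
noncomputable def G : Ideal (MvPolynomial (Fin (n + D.N)) R) :=
  Ideal.span (Set.range fun j => rename (Fin.castAdd D.N) (D.g j) - MvPolynomial.C π * X (Fin.natAdd n j))

/-- the map to the chart -/
noncomputable def eta : MvPolynomial (Fin n) R →+* MvPolynomial (Fin (n + D.N)) R ⧸ D.G :=
  (Ideal.Quotient.mk D.G).comp (rename (Fin.castAdd D.N)).toRingHom

noncomputable def unif : MvPolynomial (Fin (n + D.N)) R ⧸ D.G :=
  Ideal.Quotient.mk D.G (MvPolynomial.C π)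

noncomputable def Y (j : Fin D.N) : MvPolynomial (Fin (n + D.N)) R ⧸ D.G :=
  Ideal.Quotient.mk D.G (X (Fin.natAdd n j))

lemma eta_g (j : Fin D.N) : D.eta (D.g j) = D.unif * D.Y j := by
  refine (Ideal.Quotient.eq.2 ?_).trans (map_mul _ _ _)
  exact Ideal.subset_span ⟨j, rfl⟩

lemma eta_C : D.eta (MvPolynomial.C π) = D.unif := by
  show Ideal.Quotient.mk D.G (rename (Fin.castAdd D.N) (MvPolynomial.C π)) = _
  rw [rename_C]
  rfl

lemma exists_div_one {h : MvPolynomial (Fin n) R} (hh : h ∈ pointPrime lam) :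
    ∃ t, t ∉ pointPrime lam ∧ D.unif ∣ D.eta (t * h) := by
  obtain ⟨t, ht, hth⟩ := D.gen h hh
  obtain ⟨y, hy, z, hz, hyz⟩ := Submodule.mem_sup.1 hth
  obtain ⟨b, rfl⟩ := Ideal.mem_span_singleton'.1 hy
  obtain ⟨a, rfl⟩ := (Submodule.mem_span_range_iff_exists_fun _).1 hz
  refine ⟨t, ht, ?_⟩
  rw [← hyz, map_add, map_mul, D.eta_C, map_sum]
  refine dvd_add (dvd_mul_left _ _) (Finset.dvd_sum fun j _ => ?_)
  rw [smul_eq_mul, map_mul, D.eta_g, mul_left_comm]
  exact dvd_mul_right _ _

lemma exists_div_two (hm : IsLocalRing.maximalIdeal Λ = Ideal.span {algebraMap R Λ π})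
    (hπ : algebraMap R Λ π ≠ 0) {h : MvPolynomial (Fin n) R} (hh : aeval lam h = 0)
    (hgrad : ∀ k, IsLocalRing.residue Λ (grad (aeval lam) h k) = 0) :
    ∃ t, t ∉ pointPrime lam ∧ D.unif ^ 2 ∣ D.eta (t * h) := by
  classical
  let ev : MvPolynomial (Fin n) R →ₐ[R] Λ := aeval lam
  let res := IsLocalRing.residue Λ
  have hP : h ∈ pointPrime lam := by
    show ev h ∈ IsLocalRing.maximalIdeal Λ
    rw [show ev h = 0 from hh]
    exact zero_mem _
  obtain ⟨t, ht, hth⟩ := D.gen h hP
  obtain ⟨y, hy, z, hz, hyz⟩ := Submodule.mem_sup.1 hth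
  obtain ⟨b, rfl⟩ := Ideal.mem_span_singleton'.1 hy
  obtain ⟨a, rfl⟩ := (Submodule.mem_span_range_iff_exists_fun _).1 hz
  simp only [smul_eq_mul] at hyz
  have hπm : algebraMap R Λ π ∈ IsLocalRing.maximalIdeal Λ := hm ▸ Ideal.mem_span_singleton_self _
  have hresπ : res (algebraMap R Λ π) = 0 := (IsLocalRing.residue_eq_zero_iff _).2 hπm
  have ha : ∀ j, res (ev (a j)) = 0 := by
    have h1 : Matrix.vecMul (fun j => res (ev (a j)))
        (Matrix.of fun i j => res (grad ev (D.g i) (D.cols j))) = 0 := by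
      funext l
      have h2 := congrArg (fun q => res (grad ev q (D.cols l))) hyz
      simp only [map_add, map_sum, grad_mul, Pi.add_apply, Pi.smul_apply, Finset.sum_apply,
        smul_eq_mul, map_mul, show ev h = 0 from hh, map_zero, zero_mul, add_zero, res, ev] at h2
      have hC : ∀ k, grad ev (MvPolynomial.C π) k = 0 := fun k => by simp
      have hevC : ev (MvPolynomial.C π) = algebraMap R Λ π := aeval_C _ π
      simp only [ev] at hC hevC
      simp only [res] at hresπ
      simp only [hC, hevC, hgrad, D.val, map_mul, hresπ, mul_zero, zero_mul, add_zero, zero_add,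
        map_zero] at h2
      simpa [Matrix.vecMul, dotProduct, res, ev] using h2
    exact congrFun (Matrix.eq_zero_of_vecMul_eq_zero D.indep h1)
  have haP : ∀ j, a j ∈ pointPrime lam := fun j => (IsLocalRing.residue_eq_zero_iff _).1 (ha j)
  choose ta hta htadvd using fun j => D.exists_div_one (haP j)
  have hbP : b ∈ pointPrime lam := by
    have h2 := congrArg ev hyz
    simp only [map_add, map_sum, map_mul, show ev h = 0 from hh, mul_zero, ev, aeval_C, D.val] at h2
    have h3 : algebraMap R Λ π * (ev b + ∑ j, ev (a j) * D.mu j) = 0 := by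
      rw [← h2, mul_add, Finset.mul_sum, mul_comm]
      congr 1
      exact Finset.sum_congr rfl fun j _ => by simp only [ev]; ring
    have h4 := (mul_eq_zero.1 h3).resolve_left hπ
    show ev b ∈ IsLocalRing.maximalIdeal Λ
    rw [eq_neg_of_add_eq_zero_left h4]
    exact neg_mem (Submodule.sum_mem _ fun j _ => Ideal.mul_mem_right _ _ (haP j))
  obtain ⟨tb, htb, htbdvd⟩ := D.exists_div_one hbP
  let T := tb * ∏ j, ta j
  haveI : (pointPrime (R := R) lam).IsPrime := Ideal.IsPrime.comap _
  refine ⟨T * t, ?_, ?_⟩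
  · intro h1
    rcases (inferInstance : (pointPrime lam).IsPrime).mem_or_mem h1 with h1 | h1
    · rcases (inferInstance : (pointPrime lam).IsPrime).mem_or_mem h1 with h1 | h1
      · exact htb h1
      · exact (Ideal.primeCompl (pointPrime lam)).prod_mem (fun j _ => hta j) h1
    · exact ht h1
  · rw [mul_assoc, ← hyz, map_mul D.eta T, map_add, map_mul D.eta b, D.eta_C, map_sum, mul_add,
      Finset.mul_sum, pow_two]
    refine dvd_add ?_ (Finset.dvd_sum fun j _ => ?_)
    · rw [← mul_assoc, ← map_mul]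
      refine mul_dvd_mul (htbdvd.trans ?_) dvd_rfl
      rw [show T * b = (∏ j, ta j) * (tb * b) by simp only [T]; ring, map_mul D.eta (∏ j, ta j)]
      exact dvd_mul_left _ _
    · rw [map_mul D.eta (a j), D.eta_g, ← mul_assoc, ← map_mul, ← mul_assoc]
      refine (mul_dvd_mul ((htadvd j).trans ?_) dvd_rfl).trans (dvd_mul_right _ _)
      obtain ⟨e, he⟩ : ta j ∣ T := (Finset.dvd_prod_of_mem ta (Finset.mem_univ j)).mul_left tb
      rw [he, show ta j * e * a j = e * (ta j * a j) by ring, map_mul D.eta e]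
      exact dvd_mul_left _ _

/-- the new coordinates -/
noncomputable def point : Fin (n + D.N) → Λ := Fin.append lam D.mu

lemma aeval_point_rename (p : MvPolynomial (Fin n) R) :
    aeval D.point (rename (Fin.castAdd D.N) p) = aeval lam p := by
  rw [aeval_rename]
  congr 1
  exact congrArg aeval (funext fun i => Fin.append_left _ _ i)

/-- the new relations -/
noncomputable def chartRel (j : Fin D.N) : MvPolynomial (Fin (n + D.N)) R :=
  rename (Fin.castAdd D.N) (D.g j) - MvPolynomial.C π * X (Fin.natAdd n j)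

lemma aeval_chartRel (j : Fin D.N) : aeval D.point (D.chartRel j) = 0 := by
  rw [chartRel, map_sub, aeval_point_rename, map_mul, aeval_C, aeval_X, D.val, point,
    Fin.append_right, sub_self]

lemma exists_reduce (h : MvPolynomial (Fin (n + D.N)) R) :
    ∃ (m : ℕ) (p : MvPolynomial (Fin n) R), D.unif ^ m * Ideal.Quotient.mk D.G h = D.eta p := by
  induction h using MvPolynomial.induction_on with
  | C r =>
    refine ⟨0, MvPolynomial.C r, ?_⟩
    rw [pow_zero, one_mul]
    show _ = Ideal.Quotient.mk D.G (rename _ (MvPolynomial.C r))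
    rw [rename_C]
  | add p q hp hq =>
    obtain ⟨m₁, p₁, h₁⟩ := hp
    obtain ⟨m₂, p₂, h₂⟩ := hq
    refine ⟨m₁ + m₂, MvPolynomial.C π ^ m₂ * p₁ + MvPolynomial.C π ^ m₁ * p₂, ?_⟩
    rw [map_add, map_add, map_mul, map_mul, map_pow, map_pow, D.eta_C, ← h₁, ← h₂]
    ring
  | mul_X p i hp =>
    obtain ⟨m, p₁, h₁⟩ := hp
    refine Fin.addCases (fun i => ?_) (fun j => ?_) i
    · refine ⟨m, p₁ * X i, ?_⟩
      rw [map_mul, map_mul, ← h₁, mul_assoc]
      congr 2
      show _ = Ideal.Quotient.mk D.G (rename _ (X i))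
      rw [rename_X]
    · refine ⟨m + 1, p₁ * D.g j, ?_⟩
      rw [map_mul, map_mul, ← h₁, D.eta_g]
      show _ = _ * (D.unif * Ideal.Quotient.mk D.G (X (Fin.natAdd n j)))
      ring

lemma isCI_chart {c : ℕ} (hπ : algebraMap R Λ π ≠ 0) {f : Fin c → MvPolynomial (Fin n) R}
    (hf : IsCI lam f) (s : Fin c → ℕ) (f' : Fin c → MvPolynomial (Fin (n + D.N)) R)
    (hf' : ∀ i, D.eta (f i) = D.unif ^ s i * Ideal.Quotient.mk D.G (f' i)) :
    IsCI D.point (Fin.append f' D.chartRel) := by
  classical
  let ev' : MvPolynomial (Fin (n + D.N)) R →ₐ[R] Λ := aeval D.point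
  have hGker : ∀ x ∈ D.G, ev' x = 0 := fun x hx => by
    have hle : D.G ≤ RingHom.ker ev'.toRingHom :=
      Ideal.span_le.2 (by rintro _ ⟨j, rfl⟩; exact D.aeval_chartRel j)
    exact hle hx
  let evq : MvPolynomial (Fin (n + D.N)) R ⧸ D.G →+* Λ := Ideal.Quotient.lift D.G ev'.toRingHom hGker
  have hevη : ∀ p, evq (D.eta p) = aeval lam p := fun p => D.aeval_point_rename p
  have hevπ : evq D.unif = algebraMap R Λ π := aeval_C _ π
  have hf'0 : ∀ i, ev' (f' i) = 0 := by
    intro i
    have h1 := congrArg evq (hf' i)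
    rw [hevη, hf.1, map_mul, map_pow, hevπ] at h1
    exact (mul_eq_zero.1 h1.symm).resolve_left (pow_ne_zero _ hπ)
  refine ⟨?_, fun h hh => ?_⟩
  · intro i
    refine Fin.addCases (fun i => ?_) (fun j => ?_) i
    · rw [Fin.append_left]; exact hf'0 i
    · rw [Fin.append_right]; exact D.aeval_chartRel j
  obtain ⟨m, p, hp⟩ := D.exists_reduce h
  have hp0 : aeval lam p = 0 := by
    rw [← hevη, ← hp, map_mul, show evq (Ideal.Quotient.mk D.G h) = 0 from hh, mul_zero]
  obtain ⟨t, ht, htp⟩ := hf.2 p hp0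
  refine ⟨rename (Fin.castAdd D.N) t * MvPolynomial.C π ^ m, ?_, ?_⟩
  · rw [map_mul, map_pow, aeval_C, D.aeval_point_rename]
    exact mul_ne_zero ht (pow_ne_zero _ hπ)
  let I' := Ideal.span (Set.range (Fin.append f' D.chartRel))
  have hGI : D.G ≤ I' := Ideal.span_le.2 (by
    rintro _ ⟨j, rfl⟩
    exact Ideal.subset_span ⟨Fin.natAdd c j, Fin.append_right _ _ j⟩)
  have h1 : D.eta (t * p) ∈ I'.map (Ideal.Quotient.mk D.G) := by
    obtain ⟨co, hco⟩ := (Submodule.mem_span_range_iff_exists_fun _).1 htp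
    rw [← hco, map_sum]
    refine Submodule.sum_mem _ fun i _ => ?_
    rw [smul_eq_mul, map_mul, hf', ← mul_assoc]
    exact Ideal.mul_mem_left _ _
      (Ideal.mem_map_of_mem _ (Ideal.subset_span ⟨Fin.castAdd D.N i, Fin.append_left _ _ i⟩))
  have h2 : Ideal.Quotient.mk D.G (rename (Fin.castAdd D.N) t * MvPolynomial.C π ^ m * h) =
      D.eta (t * p) := by
    rw [map_mul D.eta, ← hp, map_mul, map_mul, map_pow, mul_assoc]
    rfl
  rw [← h2] at h1
  obtain ⟨y, hy, hyx⟩ := (Ideal.mem_map_iff_of_surjective _ Ideal.Quotient.mk_surjective).1 h1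
  have h3 := hGI (Ideal.Quotient.eq.1 hyx)
  simpa using sub_mem hy h3

lemma grad_chart_castAdd (p : MvPolynomial (Fin n) R) (k : Fin n) :
    grad (aeval D.point) (rename (Fin.castAdd D.N) p) (Fin.castAdd D.N k) =
      grad (aeval lam) p k := by
  rw [grad_apply, grad_apply, pderiv_rename (Fin.castAdd_injective n D.N), aeval_point_rename]

lemma grad_chart_natAdd (p : MvPolynomial (Fin n) R) (j : Fin D.N) :
    grad (aeval D.point) (rename (Fin.castAdd D.N) p) (Fin.natAdd n j) = 0 := by
  rw [grad_apply, pderiv_natAdd_rename, map_zero]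

lemma jac_chartRel (j : Fin D.N) :
    (∀ k, grad (aeval D.point) (D.chartRel j) (Fin.castAdd D.N k) = grad (aeval lam) (D.g j) k) ∧
    ∀ l, grad (aeval D.point) (D.chartRel j) (Fin.natAdd n l) =
      -(algebraMap R Λ π • (1 : Matrix (Fin D.N) (Fin D.N) Λ)) j l := by
  classical
  constructor
  · intro k
    have hne : Fin.natAdd n j ≠ Fin.castAdd D.N k := fun h => by
      have h1 := congrArg Fin.val h
      simp at h1
      omega
    rw [chartRel, map_sub, Pi.sub_apply, D.grad_chart_castAdd, grad_mul, Pi.add_apply,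
      Pi.smul_apply, Pi.smul_apply, grad_X, Pi.single_eq_of_ne hne.symm,
      ← MvPolynomial.algebraMap_eq, grad_algebraMap]
    simp
  · intro l
    rw [chartRel, map_sub, Pi.sub_apply, D.grad_chart_natAdd, grad_mul, Pi.add_apply,
      Pi.smul_apply, Pi.smul_apply, grad_X, ← MvPolynomial.algebraMap_eq, grad_algebraMap]
    by_cases hjl : j = l
    · subst hjl; simp
    · have hne : Fin.natAdd n j ≠ Fin.natAdd n l := fun h => hjl (Fin.natAdd_injective _ _ h)
      simp [Pi.single_eq_of_ne hne.symm, Matrix.one_apply_ne hjl]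

/-- the determinant bound on the chart -/
lemma exists_minor_chart {c : ℕ} (hm : IsLocalRing.maximalIdeal Λ = Ideal.span {algebraMap R Λ π})
    (hπ : algebraMap R Λ π ≠ 0) {f : Fin c → MvPolynomial (Fin n) R}
    (s : Fin c → ℕ) (f' : Fin c → MvPolynomial (Fin (n + D.N)) R)
    (hf' : ∀ i, D.eta (f i) = D.unif ^ s i * Ideal.Quotient.mk D.G (f' i))
    (v : ℕ) (hdiv : ∀ cols : Fin c → Fin n, algebraMap R Λ π ^ v ∣ ((jac lam f).submatrix id cols).det)
    (cols : Fin c → Fin n) (hcols : ¬ algebraMap R Λ π ^ (v + 1) ∣ ((jac lam f).submatrix id cols).det) :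
    ∃ cols' : Fin (c + D.N) ↪ Fin (n + D.N), ¬ algebraMap R Λ π ^ (v + c + 1 - ∑ i, s i) ∣
      ((jac D.point (Fin.append f' D.chartRel)).submatrix id cols').det := by
  classical
  let ϖ := algebraMap R Λ π
  let res := IsLocalRing.residue Λ
  have hϖm : ϖ ∈ IsLocalRing.maximalIdeal Λ := hm ▸ Ideal.mem_span_singleton_self _
  have hunit : ∀ x : Λ, res x ≠ 0 → IsUnit x := fun x hx =>
    by_contra fun h => hx ((IsLocalRing.residue_eq_zero_iff x).2 h)
  let J : Matrix (Fin c) (Fin n) Λ := jac lam f
  let J₀ : Matrix (Fin c) (Fin c) Λ := J.submatrix id cols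
  -- factor through the minimal minor
  obtain ⟨u, hu⟩ := hdiv cols
  have hd : J₀.det ≠ 0 := fun h => hcols (by
    rw [show ((jac lam f).submatrix id cols).det = 0 from h]
    exact dvd_zero _)
  have huu : IsUnit u := hunit u fun h => hcols (by
    rw [IsLocalRing.residue_eq_zero_iff, hm, Ideal.mem_span_singleton] at h
    obtain ⟨w, rfl⟩ := h
    exact ⟨w, by rw [hu]; ring⟩)
  have hadj : ∀ i k, J₀.det ∣ (J₀.adjugate * J) i k := by
    intro i k
    have h1 : (J₀.adjugate * J) i k = (J.submatrix id (Function.update cols i k)).det := by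
      rw [show (J₀.adjugate * J) i k = J₀.adjugate.mulVec (fun r => J r k) i from rfl,
        ← Matrix.cramer_eq_adjugate_mulVec, Matrix.cramer_apply]
      congr 1
      ext r j
      by_cases hj : j = i
      · subst hj; simp
      · simp [Matrix.updateCol_ne hj, Function.update_of_ne hj, J₀]
    rw [h1, show J₀.det = ϖ ^ v * u from hu]
    exact (IsUnit.mul_right_dvd huu).2 (hdiv _)
  choose W₀ hW₀ using hadj
  let W : Matrix (Fin c) (Fin n) Λ := Matrix.of W₀
  have hW : J₀.adjugate * J = J₀.det • W := by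
    ext i k
    simpa [W] using hW₀ i k
  have hJW : J₀ * W = J := by
    have h1 := congrArg (J₀ * ·) hW
    simp only [← Matrix.mul_assoc, Matrix.mul_adjugate, Matrix.smul_mul, Matrix.one_mul,
      Matrix.mul_smul] at h1
    exact (smul_right_injective (Matrix (Fin c) (Fin n) Λ) hd h1).symm
  let E : Matrix (Fin n) (Fin c) Λ := (1 : Matrix (Fin n) (Fin n) Λ).submatrix id cols
  have hJE : J * E = J₀ := by
    ext i j
    simp [E, J₀, Matrix.mul_apply, Matrix.one_apply]
  have hWE : W * E = 1 := by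
    have h1 := congrArg (· * E) hW
    simp only [Matrix.mul_assoc, hJE, Matrix.adjugate_mul, Matrix.smul_mul] at h1
    exact (smul_right_injective (Matrix (Fin c) (Fin c) Λ) hd h1).symm
  -- the centre modulo the relations
  let Gm : Matrix (Fin D.N) (Fin n) Λ := jac lam D.g
  let G' : Matrix (Fin D.N) (Fin n) Λ := Gm - Gm * E * W
  obtain ⟨r, erow, ecol, hspan, hdet⟩ := exists_minor fun i k => res (G' i k)
  have hr : D.N ≤ r + c := by
    let b : Fin r ⊕ Fin c → Fin n → IsLocalRing.ResidueField Λ :=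
      Sum.elim (fun i k => res (G' (erow i) k)) fun i k => res (W i k)
    have hli : LinearIndependent (IsLocalRing.ResidueField Λ) fun i k => res (Gm i k) := by
      rw [Fintype.linearIndependent_iff]
      intro co hco
      refine congrFun (Matrix.eq_zero_of_vecMul_eq_zero D.indep (funext fun l => ?_))
      simpa [Matrix.vecMul, dotProduct, Gm, jac] using congrFun hco (D.cols l)
    have hle : Submodule.span (IsLocalRing.ResidueField Λ) (Set.range fun i k => res (Gm i k)) ≤
        Submodule.span (IsLocalRing.ResidueField Λ) (Set.range b) := by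
      rw [Submodule.span_le]
      rintro _ ⟨i, rfl⟩
      have h1 : (fun k => res (Gm i k)) = (fun k => res (G' i k)) +
          ∑ j, res ((Gm * E) i j) • fun k => res (W j k) := by
        funext k
        simp only [G', Matrix.sub_apply, Pi.add_apply, Finset.sum_apply, Pi.smul_apply, smul_eq_mul,
          map_sub, Matrix.mul_apply (M := Gm * E) (N := W), map_sum, map_mul]
        simp
      show (fun k => res (Gm i k)) ∈ _
      rw [h1]
      refine add_mem (Submodule.span_mono ?_ (hspan i))
        (Submodule.sum_mem _ fun j _ => Submodule.smul_mem _ _ (Submodule.subset_span ⟨Sum.inr j, rfl⟩))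
      rintro _ ⟨l, rfl⟩
      exact ⟨Sum.inl l, rfl⟩
    have h2 := Submodule.finrank_mono hle
    rw [finrank_span_eq_card hli] at h2
    calc D.N = Fintype.card (Fin D.N) := (Fintype.card_fin _).symm
      _ ≤ _ := h2
      _ ≤ Fintype.card (Fin r ⊕ Fin c) := finrank_range_le_card b
      _ = r + c := by simp
  -- the column operations
  let off : Fin D.N → Prop := fun j => j ∉ Set.range erow
  let Z₀ : Matrix (Fin n) (Fin D.N) Λ := Matrix.of fun k j =>
    ∑ i, if erow i = j then (if ecol i = k then 1 else 0) else 0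
  let Z : Matrix (Fin n) (Fin D.N) Λ := (1 - E * W) * Z₀
  let Yd : Matrix (Fin D.N) (Fin D.N) Λ := Matrix.diagonal fun j => if off j then -1 else 0
  have hJZ : J * Z = 0 := by
    rw [← Matrix.mul_assoc, Matrix.mul_sub, Matrix.mul_one, ← Matrix.mul_assoc, hJE, hJW, sub_self,
      Matrix.zero_mul]
  let A₁ : Matrix (Fin D.N) (Fin D.N) Λ := Matrix.of fun a j =>
    if off j then (if a = j then 1 else 0) else (G' * Z₀) a j
  let dd : Fin D.N → Λ := fun j => if off j then ϖ else 1
  have hGZ : Gm * Z = G' * Z₀ := by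
    rw [← Matrix.mul_assoc, Matrix.mul_sub, Matrix.mul_one, ← Matrix.mul_assoc]
  have hZ₀ : ∀ a i, (G' * Z₀) a (erow i) = G' a (ecol i) := by
    intro a i
    simp [Z₀, Matrix.mul_apply, erow.injective.eq_iff]
  have hA : Gm * Z - ϖ • Yd = A₁ * Matrix.diagonal dd := by
    rw [hGZ]
    ext a j
    rw [Matrix.mul_diagonal]
    simp only [A₁, dd, Yd, Matrix.sub_apply, Matrix.smul_apply, Matrix.of_apply, smul_eq_mul]
    by_cases hj : off j
    · have h0 : (G' * Z₀) a j = 0 := by
        refine (Matrix.mul_apply ..).trans (Finset.sum_eq_zero fun k _ => ?_)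
        have : Z₀ k j = 0 := by
          simp only [Z₀, Matrix.of_apply]
          exact Finset.sum_eq_zero fun i _ => if_neg fun h => hj ⟨i, h⟩
        rw [this, mul_zero]
      by_cases haj : a = j
      · subst haj; simp [hj, h0]
      · simp [hj, h0, haj]
    · by_cases haj : a = j
      · subst haj; simp [hj]
      · simp [hj, haj]
  have hA₁ : IsUnit A₁.det := by
    refine hunit _ fun h0 => ?_
    rw [RingHom.map_det] at h0
    obtain ⟨x, hx0, hx⟩ := Matrix.exists_mulVec_eq_zero_iff.2 h0
    apply hx0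
    have hent : ∀ a j, res (A₁ a j) =
        if off j then (if a = j then 1 else 0) else res ((G' * Z₀) a j) := fun a j => by
      simp only [A₁, Matrix.of_apply]
      split_ifs <;> simp
    have hxe : ∀ i, x (erow i) = 0 := by
      refine congrFun (Matrix.eq_zero_of_mulVec_eq_zero hdet (funext fun l => ?_))
      have h1 := congrFun hx (erow l)
      simp only [Matrix.mulVec, dotProduct, RingHom.mapMatrix_apply, Matrix.map_apply, hent,
        Pi.zero_apply] at h1
      rw [← Finset.sum_subset (Finset.subset_univ (Finset.univ.map erow)) (fun j _ hj => ?_),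
        Finset.sum_map] at h1
      · show ∑ i, res (G' (erow l) (ecol i)) * x (erow i) = 0
        rw [← h1]
        refine Finset.sum_congr rfl fun i _ => ?_
        rw [if_neg (fun h : off (erow i) => h ⟨i, rfl⟩), hZ₀]
      · have hj' : off j := fun ⟨i, h⟩ => hj (Finset.mem_map.2 ⟨i, Finset.mem_univ _, h⟩)
        rw [if_pos hj', if_neg (fun h : erow l = j => hj' ⟨l, h⟩), zero_mul]
    funext a
    by_cases ha : off a
    · have h1 := congrFun hx a
      simp only [Matrix.mulVec, dotProduct, RingHom.mapMatrix_apply, Matrix.map_apply, hent,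
        Pi.zero_apply] at h1
      rw [Finset.sum_eq_single a] at h1
      · simpa [ha] using h1
      · intro j _ hja
        by_cases hj : off j
        · simp [hj, Ne.symm hja]
        · obtain ⟨i, rfl⟩ : j ∈ Set.range erow := not_not.1 hj
          rw [hxe i, mul_zero]
      · simp
    · obtain ⟨i, rfl⟩ : a ∈ Set.range erow := not_not.1 ha
      exact hxe i
  have hcard : (Finset.univ.filter fun j => off j).card ≤ c := by
    have h1 : (Finset.univ.filter fun j => off j) = (Finset.univ.map erow)ᶜ := by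
      ext j
      simp [off]
    rw [h1, Finset.card_compl, Finset.card_map]
    simp
    omega
  have hdd : (Matrix.diagonal dd).det = ϖ ^ (Finset.univ.filter fun j => off j).card := by
    rw [Matrix.det_diagonal]
    simp only [dd]
    rw [← Finset.prod_filter, Finset.prod_const]
  -- compare
  by_contra hall
  push Not at hall
  let f'' := Fin.append f' D.chartRel
  let e₁ : Fin c ⊕ Fin D.N ≃ Fin (c + D.N) := finSumFinEquiv
  let e₂ : Fin n ⊕ Fin D.N ≃ Fin (n + D.N) := finSumFinEquiv
  let Jn : Matrix (Fin c ⊕ Fin D.N) (Fin n ⊕ Fin D.N) Λ := (jac D.point f'').submatrix e₁ e₂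
  have hJn : ∀ p : Fin c ⊕ Fin D.N ↪ Fin n ⊕ Fin D.N,
      ϖ ^ (v + c + 1 - ∑ i, s i) ∣ (Jn.submatrix id p).det := by
    intro p
    have h1 := hall ((e₁.symm.toEmbedding.trans p).trans e₂.toEmbedding)
    have h2 : Jn.submatrix id p = ((jac D.point f'').submatrix id
        ((e₁.symm.toEmbedding.trans p).trans e₂.toEmbedding)).submatrix e₁ e₁ := by
      ext a b
      simp [Jn]
    rw [h2, Matrix.det_submatrix_equiv_self]
    exact h1
  have hq : ∀ i, ∃ a : Fin D.N → MvPolynomial (Fin (n + D.N)) R,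
      rename (Fin.castAdd D.N) (f i) =
        MvPolynomial.C π ^ s i * f' i + ∑ j, a j * D.chartRel j := by
    intro i
    have h1 : rename (Fin.castAdd D.N) (f i) - MvPolynomial.C π ^ s i * f' i ∈ D.G := by
      refine Ideal.Quotient.eq.1 ?_
      rw [map_mul, map_pow]
      exact hf' i
    obtain ⟨a, ha⟩ := (Submodule.mem_span_range_iff_exists_fun _).1 h1
    refine ⟨a, ?_⟩
    simp only [smul_eq_mul] at ha
    change ∑ j, a j * D.chartRel j = _ at ha
    rw [ha]
    ring
  choose a ha using hq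
  let M : Matrix (Fin c ⊕ Fin D.N) (Fin c ⊕ Fin D.N) Λ := Matrix.fromBlocks
    (Matrix.diagonal fun i => ϖ ^ s i) (Matrix.of fun i j => aeval D.point (a i j)) 0 1
  have hrowf : ∀ i k, grad (aeval D.point) (rename (Fin.castAdd D.N) (f i)) k =
      ϖ ^ s i * grad (aeval D.point) (f' i) k +
        ∑ j, aeval D.point (a i j) * grad (aeval D.point) (D.chartRel j) k := by
    intro i k
    rw [ha i, map_add, map_sum, Pi.add_apply, Finset.sum_apply]
    congr 1
    · rw [grad_mul, ← map_pow, ← MvPolynomial.algebraMap_eq, grad_algebraMap, smul_zero, add_zero,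
        AlgHom.commutes, map_pow]
      rfl
    · refine Finset.sum_congr rfl fun j _ => ?_
      rw [grad_mul, D.aeval_chartRel, zero_smul, add_zero]
      rfl
  have hMJ : M * Jn = Matrix.fromBlocks J 0 Gm (-(ϖ • (1 : Matrix (Fin D.N) (Fin D.N) Λ))) := by
    ext x y
    rcases x with i | j <;> rcases y with k | l
    all_goals simp only [M, Jn, f'', e₁, e₂, jac, Matrix.mul_apply, Fintype.sum_sum_type,
      Matrix.fromBlocks_apply₁₁, Matrix.fromBlocks_apply₁₂, Matrix.fromBlocks_apply₂₁,
      Matrix.fromBlocks_apply₂₂, Matrix.submatrix_apply, Matrix.of_apply,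
      finSumFinEquiv_apply_left, finSumFinEquiv_apply_right, Fin.append_left, Fin.append_right,
      Matrix.diagonal_apply, Matrix.one_apply, Matrix.zero_apply, ite_mul, zero_mul,
      one_mul, Finset.sum_ite_eq, Finset.mem_univ, if_true, Finset.sum_const_zero, zero_add]
    · rw [← hrowf, D.grad_chart_castAdd]; rfl
    · rw [← hrowf, D.grad_chart_natAdd]
    · rw [(D.jac_chartRel j).1]; rfl
    · rw [(D.jac_chartRel j).2]
      simp [Matrix.neg_apply, Matrix.smul_apply, Matrix.one_apply, ϖ, Matrix.algebraMap_matrix_apply, Algebra.smul_def]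
  let Q : Matrix (Fin n ⊕ Fin D.N) (Fin c ⊕ Fin D.N) Λ := Matrix.fromBlocks E Z 0 Yd
  have hprod : (M * Jn * Q).det = J₀.det * (A₁.det * (Matrix.diagonal dd).det) := by
    rw [hMJ, Matrix.fromBlocks_multiply, Matrix.zero_mul, add_zero, hJE, hJZ, Matrix.zero_mul,
      add_zero, Matrix.det_fromBlocks_zero₁₂, Matrix.neg_mul, Matrix.smul_mul, Matrix.one_mul,
      ← sub_eq_add_neg, hA, Matrix.det_mul]
  have hM : M.det = ϖ ^ (∑ i, s i) := by
    simp only [M, Matrix.det_fromBlocks_zero₂₁, Matrix.det_diagonal, Matrix.det_one, mul_one,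
      Finset.prod_pow_eq_pow_sum]
  have h1 := mul_dvd_mul_left (ϖ ^ ∑ i, s i) (dvd_det_mul Jn Q _ hJn)
  rw [← pow_add, ← hM, ← Matrix.det_mul, ← Matrix.mul_assoc, hprod, hdd,
    show J₀.det = ϖ ^ v * u from hu] at h1
  have h2 : ϖ ^ (v + (Finset.univ.filter fun j => off j).card + 1) ∣
      ϖ ^ (v + (Finset.univ.filter fun j => off j).card) * (u * A₁.det) := by
    have hk : v + (Finset.univ.filter fun j => off j).card + 1 ≤
        (∑ i, s i) + (v + c + 1 - ∑ i, s i) := by omega
    refine dvd_trans (pow_dvd_pow ϖ hk) ?_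
    convert h1 using 1
    ring
  rw [pow_succ, mul_dvd_mul_iff_left (pow_ne_zero _ hπ)] at h2
  exact (IsLocalRing.maximalIdeal.isMaximal Λ).ne_top
    (Ideal.eq_top_of_isUnit_mem _ hϖm (isUnit_of_dvd_unit h2 (huu.mul hA₁)))

end CentreData

end Smoothing.Neron
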